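import Cfsg.Agent.DS.Nt.Kac
import Cfsg.Agent.Lib.FinFast
import Cfsg.Agent.SB.Low.Model_m3
import Cfsg.Agent.SB.Exc.Card
import Cfsg.Agent.SB.Br.Mod_m3
import Cfsg.Agent.Cam.Ex.Chi_m3
import Cfsg.Agent.H378.SmallTor_m3
import Cfsg.Agent.H448.FprCent.SteTor
import Cfsg.Agent.TAB.F22.FxB_m3
import Cfsg.Agent.DS.Nt.Box
import Cfsg.Agent.SB.Low.TabD1_m3
import Cfsg.Agent.S0058
import Cfsg.Agent.Lib.Refl
import Cfsg.Agent.FastGrp
import Cfsg.Agent.Prune
set_option linter.all false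

section
prune_inst 0x7fb0fefaabf8addfdfff7e7ffef9dffc19d0dfffe6dff943ffe0e3ff0bdf03000bc5fb8f0de0d0ff0ed6e2b410b87813f97eefffe96bdc7ffffd5ff45ffbee0ff5f6bd0911d094240f300ffe63e07f8e7f3fffffffffffffffffffffffffffbeffffffffffff

-- part: SB/Exc/CI/Tab
section
set_option linter.all false
open scoped Cfsg.Agent.FastGrp

/-!
# S5765, exceptional groups: the number of roots trivial on an element of prime order (helper52)

`nK D l r c` is the number of roots `a` with `r ∣ bb c a`; `nK_F4`, `nK_E6`, `nK_E7`, `nK_E8` are the bounds, `nK_E6'` describes the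
type `D₅ T₁`.
-/

set_option autoImplicit false
set_option linter.unusedSectionVars false
set_option maxRecDepth 100000

namespace Cfsg.Agent.SB.Exc.CI

open CoxeterSystem Cfsg Cfsg.Lie Cfsg.Lie.ChevalleyDatum
open Cfsg.Agent.ChevalleyStructure Cfsg.Agent.ChevalleyStructure.Elts Cfsg.Agent.ChevalleyStructure.CoxeterGeom
  Cfsg.Agent.ChevalleyStructure.CoxeterGeomTypes
open Cfsg.Agent.Tits.Roots Cfsg.Agent.Nodes.RGDChev
open Cfsg.Agent.H931.KC Cfsg.Agent.DS.Nt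

/-- the number of roots trivial on the element with Kac coordinates `c` -/
def nK (D : ChevalleyDatum) (l r : ℕ) (c : Fin l → ℕ) : ℕ :=
  (Finset.univ.filter fun s : Fin D.nroots => (r : ℤ) ∣ bb c (vec D l s)).card

/-- the number of roots with `a i = 0` -/
def n1 (D : ChevalleyDatum) (l : ℕ) (i : Fin l) : ℕ := (Finset.univ.filter fun s : Fin D.nroots => vec D l s i = 0).card

/-- the number of roots with `a i = a j = 0` -/
def n2 (D : ChevalleyDatum) (l : ℕ) (i j : Fin l) : ℕ :=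
  (Finset.univ.filter fun s : Fin D.nroots => vec D l s i = 0 ∧ vec D l s j = 0).card

/-- the number of roots of the subsystem of the extended diagram without the nodes `i` and `j` -/
def n3 (D : ChevalleyDatum) (l : ℕ) (i j : Fin l) : ℕ :=
  (Finset.univ.filter fun s : Fin D.nroots => vec D l s i = 0 ∧ vec D l s j = 0 ∨
    vec D l s i = hr D l i ∧ vec D l s j = hr D l j ∨ vec D l s i = -hr D l i ∧ vec D l s j = -hr D l j).card

theorem tabF4 : (∀ i, n1 chevF4 4 i ≤ 18) ∧ (∀ i j, i ≠ j → n3 chevF4 4 i j ≤ 18) ∧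
    ∀ i, nri chevF4 4 (hr chevF4 4 i).toNat i ≤ 32 := by decide +kernel

private noncomputable def _root_.Cfsg.Agent.LsF.fd5e81d_0 : {f // @Cfsg.Agent.ChevalleyStructure.RootVecTab.dig = f} := ⟨_, by first | (delta Cfsg.Agent.ChevalleyStructure.RootVecTab.dig; rewrite [Cfsg.Agent.LsF.nmul_pat]; exact rfl) | exact rfl⟩
private noncomputable def _root_.Cfsg.Agent.LsF.fd5e81d_1 : {f // @Cfsg.Agent.ChevalleyStructure.RootVecTab.packTab = f} := ⟨_, by first | (delta Cfsg.Agent.ChevalleyStructure.RootVecTab.packTab; rewrite [Cfsg.Agent.LsF.instDecEq_eq, Cfsg.Agent.LsF.ite_eq]; exact rfl) | exact rfl⟩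
private noncomputable def _root_.Cfsg.Agent.LsF.fd5e81d_2 : {f // @Cfsg.Agent.ChevalleyStructure.RootVecTab.code = f} := ⟨_, by first | (delta Cfsg.Agent.ChevalleyStructure.RootVecTab.code; rewrite [Cfsg.Agent.LsF.fd5e81d_1.2, Cfsg.Agent.LsF.nmul_pat, Cfsg.Agent.LsF.npow_pat]; exact rfl) | exact rfl⟩
private noncomputable def _root_.Cfsg.Agent.LsF.fd5e81d_3 : {f // @Cfsg.Agent.ChevalleyStructure.RootVec.rt = f} := ⟨_, by first | (delta Cfsg.Agent.ChevalleyStructure.RootVec.rt; rewrite [Cfsg.Agent.LsF.fd5e81d_0.2, Cfsg.Agent.LsF.fd5e81d_2.2, Cfsg.Agent.LsF.nsub_pat, Cfsg.Agent.LsF.isub_pat, Cfsg.Agent.LsF.icast_pat, Cfsg.Agent.LsF.decLt_eq, Cfsg.Agent.LsF.dAnd_eq, Cfsg.Agent.LsF.ite_eq]; exact rfl) | exact rfl⟩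
private noncomputable def _root_.Cfsg.Agent.LsF.fd5e81d_4 : {f // @Cfsg.Agent.Nodes.RGDChev.vec = f} := ⟨_, by first | (delta Cfsg.Agent.Nodes.RGDChev.vec; rewrite [Cfsg.Agent.LsF.fd5e81d_3.2]; exact rfl) | exact rfl⟩
private noncomputable def _root_.Cfsg.Agent.LsF.fd5e81d_5 : {f // @Cfsg.Agent.SB.Exc.CI.n1 = f} := ⟨_, by first | (delta Cfsg.Agent.SB.Exc.CI.n1; rewrite [Cfsg.Agent.LsF.fd5e81d_4.2, Cfsg.Agent.LsF.finFintype_eq, Cfsg.Agent.LsF.fcard_eq, Cfsg.Agent.LsF.ffilter_eq, Cfsg.Agent.LsF.instIDecEq_eq]; exact rfl) | exact rfl⟩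
private noncomputable def _root_.Cfsg.Agent.LsF.fd5e81d_6 : {f // @Cfsg.Agent.H931.KC.hr = f} := ⟨_, by first | (delta Cfsg.Agent.H931.KC.hr; rewrite [Cfsg.Agent.LsF.fd5e81d_4.2, Cfsg.Agent.LsF.nsub_pat]; exact rfl) | exact rfl⟩
private noncomputable def _root_.Cfsg.Agent.LsF.fd5e81d_7 : {f // @Cfsg.Agent.SB.Exc.CI.n3 = f} := ⟨_, by first | (delta Cfsg.Agent.SB.Exc.CI.n3; rewrite [Cfsg.Agent.LsF.fd5e81d_4.2, Cfsg.Agent.LsF.fd5e81d_6.2, Cfsg.Agent.LsF.ineg_pat, Cfsg.Agent.LsF.finFintype_eq, Cfsg.Agent.LsF.fcard_eq, Cfsg.Agent.LsF.ffilter_eq, Cfsg.Agent.LsF.instIDecEq_eq, Cfsg.Agent.LsF.dAnd_eq, Cfsg.Agent.LsF.dOr_eq]; exact rfl) | exact rfl⟩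
private noncomputable def _root_.Cfsg.Agent.LsF.fd5e81d_8 : {f // @Cfsg.Agent.DS.Nt.nri = f} := ⟨_, by first | (delta Cfsg.Agent.DS.Nt.nri; rewrite [Cfsg.Agent.LsF.fd5e81d_4.2, Cfsg.Agent.LsF.icast_pat, Cfsg.Agent.LsF.finFintype_eq, Cfsg.Agent.LsF.fcard_eq, Cfsg.Agent.LsF.ffilter_eq, Cfsg.Agent.LsF.idDvd_eq]; exact rfl) | exact rfl⟩
theorem tabE6 : (∀ i, n1 chevE6 6 i ≤ 40) ∧ (∀ i j, i ≠ j → n3 chevE6 6 i j ≤ 40) ∧
    ∀ i, hr chevE6 6 i ≠ 1 → nri chevE6 6 (hr chevE6 6 i).toNat i ≤ 32 := by (refine of_decide_eq_true ?_; (try (rewrite [Cfsg.Agent.LsF.fd5e81d_5.2, Cfsg.Agent.LsF.fd5e81d_7.2, Cfsg.Agent.LsF.fd5e81d_6.2, Cfsg.Agent.LsF.fd5e81d_8.2, Cfsg.Agent.LsF.decLe_eq, Cfsg.Agent.LsF.toNat_eq, Cfsg.Agent.LsF.instIDecEq_eq, Cfsg.Agent.LsF.dAnd_eq, Cfsg.Agent.LsF.dNot_eq, Cfsg.Agent.LsF.dFinEq_eq, Cfsg.Agent.LsF.dForallFin_eq, Cfsg.Agent.LsF.dAllP_eq, Cfsg.Agent.LsF.decide_eq])); decide +kernel)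

private noncomputable def _root_.Cfsg.Agent.LsF.fd5e81d_9 : {f // @Cfsg.Agent.SB.Exc.CI.n2 = f} := ⟨_, by first | (delta Cfsg.Agent.SB.Exc.CI.n2; rewrite [Cfsg.Agent.LsF.fd5e81d_4.2, Cfsg.Agent.LsF.finFintype_eq, Cfsg.Agent.LsF.fcard_eq, Cfsg.Agent.LsF.ffilter_eq, Cfsg.Agent.LsF.instIDecEq_eq, Cfsg.Agent.LsF.dAnd_eq]; exact rfl) | exact rfl⟩
theorem tabE6' : (∀ i, i ≠ 0 → i ≠ 5 → n1 chevE6 6 i ≤ 32) ∧ (∀ i j, i ≠ j → n2 chevE6 6 i j ≤ 32) ∧
    ∀ i j, i ≠ j → j ≠ 0 → j ≠ 5 → n3 chevE6 6 i j ≤ 32 := by (refine of_decide_eq_true ?_; (try (rewrite [Cfsg.Agent.LsF.fd5e81d_5.2, Cfsg.Agent.LsF.fd5e81d_9.2, Cfsg.Agent.LsF.fd5e81d_7.2, Cfsg.Agent.LsF.decLe_eq, Cfsg.Agent.LsF.dAnd_eq, Cfsg.Agent.LsF.dNot_eq, Cfsg.Agent.LsF.dFinEq_eq, Cfsg.Agent.LsF.dForallFin_eq, Cfsg.Agent.LsF.dAllP_eq, Cfsg.Agent.LsF.decide_eq])); decide +kernel)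

theorem tabE7 : (∀ i, n1 chevE7 7 i ≤ 72) ∧ (∀ i j, i ≠ j → n3 chevE7 7 i j ≤ 72) ∧
    ∀ i, hr chevE7 7 i ≠ 1 → nri chevE7 7 (hr chevE7 7 i).toNat i ≤ 72 := by (refine of_decide_eq_true ?_; (try (rewrite [Cfsg.Agent.LsF.fd5e81d_5.2, Cfsg.Agent.LsF.fd5e81d_7.2, Cfsg.Agent.LsF.fd5e81d_6.2, Cfsg.Agent.LsF.fd5e81d_8.2, Cfsg.Agent.LsF.decLe_eq, Cfsg.Agent.LsF.toNat_eq, Cfsg.Agent.LsF.instIDecEq_eq, Cfsg.Agent.LsF.dAnd_eq, Cfsg.Agent.LsF.dNot_eq, Cfsg.Agent.LsF.dFinEq_eq, Cfsg.Agent.LsF.dForallFin_eq, Cfsg.Agent.LsF.dAllP_eq, Cfsg.Agent.LsF.decide_eq])); decide +kernel)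

theorem tabE8 : (∀ i, n1 chevE8 8 i ≤ 128) ∧ (∀ i j, i ≠ j → n3 chevE8 8 i j ≤ 128) ∧
    ∀ i, nri chevE8 8 (hr chevE8 8 i).toNat i ≤ 128 := by (refine of_decide_eq_true ?_; (try (rewrite [Cfsg.Agent.LsF.fd5e81d_5.2, Cfsg.Agent.LsF.fd5e81d_7.2, Cfsg.Agent.LsF.fd5e81d_8.2, Cfsg.Agent.LsF.fd5e81d_6.2, Cfsg.Agent.LsF.decLe_eq, Cfsg.Agent.LsF.toNat_eq, Cfsg.Agent.LsF.dAnd_eq, Cfsg.Agent.LsF.dNot_eq, Cfsg.Agent.LsF.dFinEq_eq, Cfsg.Agent.LsF.dForallFin_eq, Cfsg.Agent.LsF.dAllP_eq, Cfsg.Agent.LsF.decide_eq])); decide +kernel)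

theorem small6 : ∀ s : Fin chevE6.nroots, (vec chevE6 6 s 0 ≤ 1 ∧ -1 ≤ vec chevE6 6 s 0) ∧
    (vec chevE6 6 s 5 ≤ 1 ∧ -1 ≤ vec chevE6 6 s 5) ∧
    vec chevE6 6 s 0 - vec chevE6 6 s 5 ≤ 1 ∧ -1 ≤ vec chevE6 6 s 0 - vec chevE6 6 s 5 := by decide +kernel

theorem cent6 : ∀ i : Fin 6, (3 : ℤ) ∣ pairing (cartanOf chevE6 6) i ![1, 0, -1, 0, 1, -1] := by decide +kernel

variable {D : ChevalleyDatum} {l : ℕ} {M : CoxeterMatrix (Fin l)} (hp : IsType D l M) {r : ℕ} {c : Fin l → ℕ} {c0 : ℕ}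

include hp in
theorem dvd_cases (K : Kac D l r c c0) (s : Fin D.nroots) (h : (r : ℤ) ∣ bb c (vec D l s)) :
    (∀ i, c i ≠ 0 → vec D l s i = 0) ∨
      (c0 = 0 ∧ ((∀ i, c i ≠ 0 → vec D l s i = hr D l i) ∨ ∀ i, c i ≠ 0 → vec D l s i = -hr D l i)) := by
  have ha := isRoot_vec hp M.toCoxeterSystem s.2
  by_cases h0 : 0 ≤ vec D l s
  · rcases (dvd_iff hp K ha h0).1 h with h1 | ⟨h1, h2⟩
    · exact Or.inl fun i hi => not_not.1 fun h => hi (h1 i h)
    · exact Or.inr ⟨h1, Or.inl fun i hi => not_not.1 fun h => hi (h2 i h)⟩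
  · have h' : (r : ℤ) ∣ bb c (-vec D l s) := by
      rw [map_neg]
      exact h.neg_right
    rcases (dvd_iff hp K ha.neg (neg_of_not hp ha h0)).1 h' with h1 | ⟨h1, h2⟩
    · exact Or.inl fun i hi => neg_eq_zero.1 (not_not.1 fun h => hi (h1 i h))
    · exact Or.inr ⟨h1, Or.inr fun i hi => neg_eq_iff_eq_neg.1 (not_not.1 fun h => hi (h2 i h))⟩

include hp in
theorem nK_le_n1 (K : Kac D l r c c0) (h0 : c0 ≠ 0) {i : Fin l} (hi : c i ≠ 0) : nK D l r c ≤ n1 D l i :=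
  Finset.card_le_card fun s hs => by
    rw [Finset.mem_filter] at hs ⊢
    rcases dvd_cases hp K s hs.2 with h | ⟨h, -⟩
    · exact ⟨hs.1, h i hi⟩
    · exact absurd h h0

include hp in
theorem nK_le_n2 (K : Kac D l r c c0) (h0 : c0 ≠ 0) {i j : Fin l} (hi : c i ≠ 0) (hj : c j ≠ 0) :
    nK D l r c ≤ n2 D l i j :=
  Finset.card_le_card fun s hs => by
    rw [Finset.mem_filter] at hs ⊢
    rcases dvd_cases hp K s hs.2 with h | ⟨h, -⟩
    · exact ⟨hs.1, h i hi, h j hj⟩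
    · exact absurd h h0

include hp in
theorem nK_le_n3 (K : Kac D l r c c0) {i j : Fin l} (hi : c i ≠ 0) (hj : c j ≠ 0) : nK D l r c ≤ n3 D l i j :=
  Finset.card_le_card fun s hs => by
    rw [Finset.mem_filter] at hs ⊢
    rcases dvd_cases hp K s hs.2 with h | ⟨-, h | h⟩
    · exact ⟨hs.1, Or.inl ⟨h i hi, h j hj⟩⟩
    · exact ⟨hs.1, Or.inr (Or.inl ⟨h i hi, h j hj⟩)⟩
    · exact ⟨hs.1, Or.inr (Or.inr ⟨h i hi, h j hj⟩)⟩

theorem nK_eq_nri {i : Fin l} (h : ∀ x, bb c x = x i) : nK D l r c = nri D l r i := by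
  unfold nK nri
  simp only [h]

theorem bb_single {i : Fin l} (h : ∀ j, j ≠ i → c j = 0) (x : Fin l → ℤ) : bb c x = x i * c i := by
  show ∑ j, x j * (c j : ℤ) = _
  rw [Finset.sum_eq_single i]
  · intro j _ hj
    rw [h j hj, Nat.cast_zero, mul_zero]
  · intro h
    exact absurd (Finset.mem_univ i) h

theorem exists_ne (hne : ¬ ∀ x, (r : ℤ) ∣ bb c x) : ∃ i, c i ≠ 0 := by
  by_contra h
  push Not at h
  refine hne fun x => ?_
  show (r : ℤ) ∣ ∑ i, x i * (c i : ℤ)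
  rw [Finset.sum_eq_zero fun i _ => by rw [h i, Nat.cast_zero, mul_zero]]
  exact dvd_zero _

/-- the isolated case -/
theorem iso_case (hr' : r.Prime) (K : Kac D l r c c0) (hne : ¬ ∀ x, (r : ℤ) ∣ bb c x) (h0 : c0 = 0) {i : Fin l}
    (h1 : ∀ j, j ≠ i → c j = 0) : hr D l i = r ∧ ∀ x, bb c x = x i := by
  have hb := bb_single h1
  have h2 : hr D l i * c i = r := by
    have h3 := bb_hr K
    rw [hb, h0] at h3
    simpa using h3
  have h3 : c i ∣ r := by
    rw [← Int.natCast_dvd_natCast, ← h2]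
    exact Dvd.intro_left _ rfl
  rcases (Nat.dvd_prime hr').1 h3 with h4 | h4
  · rw [h4] at h2
    exact ⟨by simpa using h2, fun x => by rw [hb, h4]; simp⟩
  · exact absurd (fun x => by rw [hb, h4]; exact Dvd.intro_left _ rfl) hne

include hp in
theorem nK_le (hr' : r.Prime) (K : Kac D l r c c0) (hne : ¬ ∀ x, (r : ℤ) ∣ bb c x) {b : ℕ} (h1 : ∀ i, n1 D l i ≤ b)
    (h3 : ∀ i j, i ≠ j → n3 D l i j ≤ b) (h4 : ∀ i, hr D l i = r → nri D l r i ≤ b) : nK D l r c ≤ b := by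
  obtain ⟨i, hi⟩ := exists_ne hne
  by_cases h0 : c0 = 0
  · by_cases h5 : ∀ j, j ≠ i → c j = 0
    · obtain ⟨h6, h7⟩ := iso_case hr' K hne h0 h5
      rw [nK_eq_nri h7]
      exact h4 i h6
    · push Not at h5
      obtain ⟨j, hji, hj⟩ := h5
      exact (nK_le_n3 hp K hj hi).trans (h3 j i hji)
  · exact (nK_le_n1 hp K h0 hi).trans (h1 i)

theorem nri_le (hr' : r.Prime) {b : ℕ} (h : ∀ i, hr D l i ≠ 1 → nri D l (hr D l i).toNat i ≤ b) (i : Fin l)
    (hi : hr D l i = r) : nri D l r i ≤ b := by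
  have h1 := h i (by
    rw [hi]
    exact_mod_cast hr'.ne_one)
  rwa [hi, Int.toNat_natCast] at h1

theorem nK_F4 {M : CoxeterMatrix (Fin 4)} (hp : IsType chevF4 4 M) {c : Fin 4 → ℕ} (hr' : r.Prime)
    (K : Kac chevF4 4 r c c0) (hne : ¬ ∀ x, (r : ℤ) ∣ bb c x) :
    nK chevF4 4 r c ≤ 32 ∧ (r ≠ 2 → nK chevF4 4 r c ≤ 18) := by
  refine ⟨nK_le hp hr' K hne (fun i => (tabF4.1 i).trans (by norm_num))
    (fun i j h => (tabF4.2.1 i j h).trans (by norm_num)) (nri_le hr' fun i _ => tabF4.2.2 i),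
    fun h2 => nK_le hp hr' K hne tabF4.1 tabF4.2.1 fun i hi => ?_⟩
  rw [hrF4] at hi
  fin_cases i
  · exact absurd (by simp at hi; omega) h2
  · obtain rfl : r = 4 := by simp at hi; omega
    exact absurd hr' (by norm_num)
  · obtain rfl : r = 3 := by simp at hi; omega
    exact nri_F4.2.2.le.trans (by norm_num)
  · exact absurd (by simp at hi; omega) h2

theorem nK_E6 {M : CoxeterMatrix (Fin 6)} (hp : IsType chevE6 6 M) {c : Fin 6 → ℕ} (hr' : r.Prime)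
    (K : Kac chevE6 6 r c c0) (hne : ¬ ∀ x, (r : ℤ) ∣ bb c x) : nK chevE6 6 r c ≤ 40 :=
  nK_le hp hr' K hne tabE6.1 tabE6.2.1 fun i hi => (nri_le hr' tabE6.2.2 i hi).trans (by norm_num)

theorem nK_E7 {M : CoxeterMatrix (Fin 7)} (hp : IsType chevE7 7 M) {c : Fin 7 → ℕ} (hr' : r.Prime)
    (K : Kac chevE7 7 r c c0) (hne : ¬ ∀ x, (r : ℤ) ∣ bb c x) : nK chevE7 7 r c ≤ 72 :=
  nK_le hp hr' K hne tabE7.1 tabE7.2.1 (nri_le hr' tabE7.2.2)

theorem nK_E8 {M : CoxeterMatrix (Fin 8)} (hp : IsType chevE8 8 M) {c : Fin 8 → ℕ} (hr' : r.Prime)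
    (K : Kac chevE8 8 r c c0) (hne : ¬ ∀ x, (r : ℤ) ∣ bb c x) : nK chevE8 8 r c ≤ 128 :=
  nK_le hp hr' K hne tabE8.1 tabE8.2.1 (nri_le hr' fun i _ => tabE8.2.2 i)

/-- the functionals of the type `D₅ T₁` -/
def Min6 (f : (Fin 6 → ℤ) → ℤ) : Prop := (∀ x, f x = x 0) ∨ (∀ x, f x = x 5) ∨ ∀ x, f x = x 0 - x 5

/-- the type `D₅ T₁` -/
theorem nK_E6' {M : CoxeterMatrix (Fin 6)} (hp : IsType chevE6 6 M) {c : Fin 6 → ℕ} (hr' : r.Prime)
    (K : Kac chevE6 6 r c c0) (hne : ¬ ∀ x, (r : ℤ) ∣ bb c x) :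
    nK chevE6 6 r c ≤ 32 ∨ ∃ (f : (Fin 6 → ℤ) → ℤ) (m : ℤ), Min6 f ∧ ∀ x, (r : ℤ) ∣ bb c x - m * f x := by
  obtain ⟨i, hi⟩ := exists_ne hne
  by_cases h5 : ∀ j, j ≠ i → c j = 0
  · by_cases h0 : c0 = 0
    · obtain ⟨h6, h7⟩ := iso_case hr' K hne h0 h5
      rw [nK_eq_nri h7]
      exact Or.inl (nri_le hr' tabE6.2.2 i h6)
    · by_cases h6 : i = 0
      · subst h6
        exact Or.inr ⟨fun x => x 0, c 0, Or.inl fun _ => rfl, fun x => by rw [bb_single h5, mul_comm, sub_self]; exact dvd_zero _⟩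
      by_cases h7 : i = 5
      · subst h7
        exact Or.inr ⟨fun x => x 5, c 5, Or.inr (Or.inl fun _ => rfl),
          fun x => by rw [bb_single h5, mul_comm, sub_self]; exact dvd_zero _⟩
      exact Or.inl ((nK_le_n1 hp K h0 hi).trans (tabE6'.1 i h6 h7))
  · push Not at h5
    obtain ⟨j, hji, hj⟩ := h5
    by_cases h0 : c0 = 0
    · by_cases h6 : ∀ m, m ≠ 0 → m ≠ 5 → c m = 0
      · have h7 : (c0 : ℤ) + (c 0 + 2 * c 1 + 2 * c 2 + 3 * c 3 + 2 * c 4 + c 5) = r := by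
          have h8 := K.sum
          rw [hrE6, Fin.sum_univ_six] at h8
          simpa using h8
        have hb : ∀ x, bb c x = x 0 * c 0 + x 1 * c 1 + x 2 * c 2 + x 3 * c 3 + x 4 * c 4 + x 5 * c 5 := fun x => by
          show ∑ i, x i * (c i : ℤ) = _
          rw [Fin.sum_univ_six]
        rw [h0, h6 1 (by decide) (by decide), h6 2 (by decide) (by decide), h6 3 (by decide) (by decide),
          h6 4 (by decide) (by decide)] at h7
        refine Or.inr ⟨fun x => x 0 - x 5, c 0, Or.inr (Or.inr fun _ => rfl), fun x => ⟨x 5, ?_⟩⟩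
        rw [hb, h6 1 (by decide) (by decide), h6 2 (by decide) (by decide), h6 3 (by decide) (by decide),
          h6 4 (by decide) (by decide), ← h7]
        push_cast
        ring
      · push Not at h6
        obtain ⟨m, h7, h8, hm⟩ := h6
        by_cases h9 : i = m
        · subst h9
          exact Or.inl ((nK_le_n3 hp K hj hm).trans (tabE6'.2.2 j i hji h7 h8))
        · exact Or.inl ((nK_le_n3 hp K hi hm).trans (tabE6'.2.2 i m h9 h7 h8))
    · exact Or.inl ((nK_le_n2 hp K h0 hj hi).trans (tabE6'.2.1 j i hji))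

/-- the Weyl group of `E₆` fixes a vector modulo `3` -/
theorem rep_cent6 {M : CoxeterMatrix (Fin 6)} (hp : IsType chevE6 6 M) (w : M.Group) (j : Fin 6) :
    (3 : ℤ) ∣ rep M.toCoxeterSystem hp.isCartan w ![1, 0, -1, 0, 1, -1] j - (![1, 0, -1, 0, 1, -1] : Fin 6 → ℤ) j := by
  induction w using M.toCoxeterSystem.simple_induction_right generalizing j with
  | one => rw [map_one, Module.End.one_apply, sub_self]; exact dvd_zero _
  | mul_simple_right w i ih =>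
    obtain ⟨m, hm⟩ := cent6 i
    rw [rep_mul_apply, rep_simple_eq, map_sub, map_zsmul, Pi.sub_apply, Pi.smul_apply, smul_eq_mul, hm, sub_right_comm,
      mul_assoc]
    exact dvd_sub (ih j) (Dvd.intro _ rfl)

/-- no element of the Weyl group multiplies a minuscule functional by `2` modulo an odd prime -/
theorem Min6.not_two {M : CoxeterMatrix (Fin 6)} (hp : IsType chevE6 6 M) {f : (Fin 6 → ℤ) → ℤ} (hf : Min6 f)
    (hr' : r.Prime) (h2 : r ≠ 2) (w : M.Group) :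
    ¬ ∀ x, (r : ℤ) ∣ f (rep M.toCoxeterSystem hp.isCartan w x) - 2 * f x := by
  intro h
  have hs : ∀ a, IsRoot M.toCoxeterSystem hp.isCartan a → f a ≤ 1 ∧ -1 ≤ f a := fun a ha => by
    obtain ⟨s, hs, rfl⟩ := (isRoot_iff hp M.toCoxeterSystem a).1 ha
    have h1 := small6 ⟨s, hs⟩
    rcases hf with hf | hf | hf <;> rw [hf]
    exacts [h1.1, h1.2.1, h1.2.2]
  obtain ⟨i, hi⟩ : ∃ i, f (sr i) = 1 := by
    rcases hf with hf | hf | hf
    · exact ⟨0, by rw [hf, sr_self]⟩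
    · exact ⟨5, by rw [hf, sr_self]⟩
    · exact ⟨0, by rw [hf, sr_self, sr_ne (by decide), sub_zero]⟩
  have h3 : r = 3 := by
    have h4 := h (sr i)
    have h5 := hs _ ((isRoot_sr M.toCoxeterSystem hp.isCartan i).act w)
    rw [hi] at h4
    have h6 := Int.le_of_dvd (a := r) (b := 2 * 1 - f (rep M.toCoxeterSystem hp.isCartan w (sr i))) (by omega)
      (dvd_sub_comm.1 h4)
    have h7 := hr'.two_le
    omega
  subst h3
  have h4 := h ![1, 0, -1, 0, 1, -1]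
  have h5 := rep_cent6 hp w 0
  have h6 := rep_cent6 hp w 5
  have e0 : (![1, 0, -1, 0, 1, -1] : Fin 6 → ℤ) 0 = 1 := rfl
  have e5 : (![1, 0, -1, 0, 1, -1] : Fin 6 → ℤ) 5 = -1 := rfl
  rw [e0] at h5
  rw [e5] at h6
  rcases hf with hf | hf | hf
  · rw [hf, hf, e0] at h4
    omega
  · rw [hf, hf, e5] at h4
    omega
  · rw [hf, hf, e0, e5] at h4
    omega

end Cfsg.Agent.SB.Exc.CI
end

-- part: SB/Exc/CI/Main
section
prune_inst 0x4f0101540452202000000000042003c22b2000090006b8001e10003400f88af4080020f2000a0011280000a840034006811000160420000000a000000411c0080102900022010a904200018811006000000000000000000000000000000000000000000000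
set_option linter.all false
open scoped Cfsg.Agent.FastGrp

/-!
# S5765, exceptional groups: centralizers of semisimple elements of prime order (helper52)

`boxCI : BoxCI`, `boxCI6 : BoxCI6`.
-/

set_option autoImplicit false
set_option linter.unusedSectionVars false

namespace Cfsg.Agent.SB.Exc

open CoxeterSystem Cfsg Cfsg.Lie Cfsg.Lie.ChevalleyDatum
open Cfsg.Agent.ChevalleyStructure Cfsg.Agent.ChevalleyStructure.Elts Cfsg.Agent.ChevalleyStructure.CoxeterGeom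
  Cfsg.Agent.ChevalleyStructure.CoxeterGeomTypes
open Cfsg.Agent.Tits.Roots Cfsg.Agent.Tits.Core Cfsg.Agent.Nodes Cfsg.Agent.Nodes.Reps Cfsg.Agent.Nodes.BNOf
  Cfsg.Agent.Nodes.RGDChev Cfsg.Agent.Nodes.Bruhat
open Cfsg.Agent.KFacts.RgdField Cfsg.Agent.KFacts.RgdChevCoord
open Cfsg.Agent.BpExc Cfsg.Agent.BpExc.TorCent Cfsg.Agent.BpExc.TorChev Cfsg.Agent.BpExc.Tow
  Cfsg.Agent.BpExc.TowChev Cfsg.Agent.BpExc.Fr Cfsg.Agent.BpExc.LangFr
open Cfsg.Agent.H469.Exc Cfsg.Agent.H795.SetCent Cfsg.Agent.H129.TorusChar Cfsg.Agent.DS.Ex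
open Cfsg.Agent.H931.KC Cfsg.Agent.DS.Nt

namespace CI

variable {D : ChevalleyDatum} {l : ℕ} {M : CoxeterMatrix (Fin l)} {hp : IsType D l M} {p : ℕ} [Fact p.Prime]
  {e : ℕ} {σ : MulAut (YY D p)} {g : (Fin l → ℤ) ≃+ (Fin l → ℤ)}

/-- the standard situation: `t` in Kac form, fixed by `σ` -/
structure Sit (hp : IsType D l M) (e : ℕ) (σ : MulAut (YY D p)) (g : (Fin l → ℤ) ≃+ (Fin l → ℤ)) (r : ℕ) (t : YY D p)
    (ζ : KK p) (c : Fin l → ℕ) (c0 : ℕ) : Prop where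
  he : 0 < e
  frob : IsFrob p e σ
  fr : Fr M.toCoxeterSystem hp.isCartan (TT D (KK p)) (XX D l (KK p)) σ g
  prime : r.Prime
  ne : r ≠ p
  prim : IsPrimitiveRoot ζ r
  kac : Kac D l r c c0
  mem : t ∈ TT D (KK p)
  chr : ∀ a, cX hp t a = ζ ^ bb c a
  nt : ¬ ∀ a, (r : ℤ) ∣ bb c a
  fix : σ t = t
  pow : t ^ r = 1

theorem exists_sit (he : 0 < e) (hσ : IsFrob p e σ)
    (Φ : Fr M.toCoxeterSystem hp.isCartan (TT D (KK p)) (XX D l (KK p)) σ g) {y : YY D p} (hy : σ y = y)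
    (h1 : (orderOf y).Prime) (h2 : orderOf y ≠ p) : ∃ (x : YY D p) (σ' : MulAut (YY D p)) (w : M.Group) (ζ : KK p)
      (c : Fin l → ℕ) (c0 : ℕ), Sit hp e σ' (g.trans (repAut M.toCoxeterSystem hp.isCartan w)) (orderOf y) (x * y * x⁻¹) ζ c c0 ∧
      Nat.card ↥(DL.fix σ ⊓ Subgroup.centralizer {y}) =
        Nat.card ↥(DL.fix σ' ⊓ Subgroup.centralizer {x * y * x⁻¹}) := by
  obtain ⟨x, ζ, c, c0, a1, a2, a3, a4, a5⟩ := exists_kacform hp h1 h2 (pow_orderOf_eq_one y) fun h => by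
    rw [h, orderOf_one] at h1
    exact Nat.not_prime_one h1
  obtain ⟨σ', w, b1, b2, b3, b4⟩ := exists_red (hp := hp) he hσ Φ hy a3
  exact ⟨x, σ', w, ζ, c, c0, ⟨he, b1, b2, h1, h2, a1, a2, a3, a4, a5, b3,
    by rw [conj_pow, pow_orderOf_eq_one, mul_one, mul_inv_cancel]⟩, b4⟩

namespace Sit

variable {r : ℕ} {t : YY D p} {ζ : KK p} {c : Fin l → ℕ} {c0 : ℕ} (S : Sit hp e σ g r t ζ c c0)
include S

theorem dd_eq : dd p t = l + nK D l r c := dd_tor_zpow hp S.mem S.prim (f := bb c) S.chr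

theorem card_le {n : ℕ} (hn : dd p t ≤ l + n) :
    Nat.card ↥(DL.fix σ ⊓ Subgroup.centralizer {t}) ≤ nmk D l * ((p ^ e) ^ n * (p ^ e + 1) ^ l) :=
  (card_cen (hp := hp) S.prime S.ne S.mem S.pow _).trans (Nat.mul_le_mul_left _ (card_DZ S.he S.frob S.fr S.mem S.fix hn))

theorem card_le' {n : ℕ} (hn : nK D l r c ≤ n) :
    Nat.card ↥(DL.fix σ ⊓ Subgroup.centralizer {t}) ≤ nmk D l * ((p ^ e) ^ n * (p ^ e + 1) ^ l) :=
  S.card_le (by rw [S.dd_eq]; omega)

theorem card_conn (h : ∀ c : YY D p, c * t = t * c → c ∈ DZ hp p {t}) {n : ℕ} (hn : nK D l r c ≤ n) :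
    Nat.card ↥(DL.fix σ ⊓ Subgroup.centralizer {t}) ≤ (p ^ e) ^ n * (p ^ e + 1) ^ l := by
  rw [cen_eq S.mem h]
  exact card_DZ S.he S.frob S.fr S.mem S.fix (by rw [S.dd_eq]; omega)

theorem two_le : 2 ≤ p ^ e := (Fact.out : p.Prime).two_le.trans (Nat.le_self_pow S.he.ne' p)

theorem dvd_act (x : Fin l → ℤ) : (r : ℤ) ∣ bb c (g x) - (p ^ e : ℕ) * bb c x := by
  have h1 := cX_sigma hp M.toCoxeterSystem S.frob S.fr S.mem x
  rw [S.fix, S.chr, S.chr, ← zpow_natCast, ← zpow_mul] at h1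
  have h0 := S.prim.ne_zero S.prime.ne_zero
  rw [← S.prim.zpow_eq_one_iff_dvd, zpow_sub₀ h0, h1, mul_comm, div_self (zpow_ne_zero _ h0)]

/-- a non-isolated element with connected centralizer -/
theorem lc (hD : Typ D) (h : ∀ c : YY D p, c * t = t * c → c ∈ DZ hp p {t}) {f : (Fin l → ℤ) →+ ℤ}
    (hf : ∀ a, IsRoot M.toCoxeterSystem hp.isCartan a → (r : ℤ) ∣ bb c a → f a = 0) {x : Fin l → ℤ} (hx0 : 0 < f x)
    (hx6 : f x ≤ 6) : LC p t := by
  intro s hs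
  obtain ⟨lam, hlam⟩ := exists_prim (p := p) hs.1 hs.2.2
  obtain ⟨b, hb, hbX⟩ := exists_tor_zpow hp hD (hlam.ne_zero hs.1.ne_zero) f
  have hZ : ({t} : Set (YY D p)) ⊆ TT D (KK p) := Set.singleton_subset_iff.2 S.mem
  refine ⟨b, fun h9 => ?_, pow_eq_one_of_cX (hp := hp) hb fun x => ?_, fun y hy => comm_DZ hb (fun a ha => ?_) (h y hy)⟩
  · have h10 := hbX x
    rw [h9, cX_one, eq_comm, hlam.zpow_eq_one_iff_dvd] at h10
    have h11 := Int.le_of_dvd hx0 h10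
    have h12 := hs.2.1
    omega
  · rw [hbX, ← zpow_natCast, ← zpow_mul, mul_comm, zpow_mul, zpow_natCast, hlam.pow_eq_one, one_zpow]
  · have h6 := (mem_Ps hZ).1 ha
    have h7 := h6.2 _ rfl
    rw [S.chr, S.prim.zpow_eq_one_iff_dvd] at h7
    rw [hbX, hf a h6.1 h7, zpow_zero]

end Sit

theorem lc_of_conj {x y : YY D p} (h : LC p (x * y * x⁻¹)) : LC p y := by
  intro s hs
  obtain ⟨b, h1, h2, h3⟩ := h s hs
  refine ⟨x⁻¹ * b * x, fun h4 => h1 ?_, ?_, fun c hc => comm_of_conj (h3 _ (conj_comm hc))⟩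
  · have e : b = x * (x⁻¹ * b * x) * x⁻¹ := by group
    rw [e, h4, mul_one, mul_inv_cancel]
  · have e : x⁻¹ * b * x = x⁻¹ * b * x⁻¹⁻¹ := by rw [inv_inv]
    rw [e, conj_pow, h2, mul_one, mul_inv_cancel]

/-- `E₆`: the centralizer is connected or small -/
theorem Sit.conn6 {M : CoxeterMatrix (Fin 6)} {hp : IsType chevE6 6 M} {σ : MulAut (YY chevE6 p)}
    {g : (Fin 6 → ℤ) ≃+ (Fin 6 → ℤ)} {r : ℕ} {t : YY chevE6 p} {ζ : KK p} {c : Fin 6 → ℕ} {c0 : ℕ}
    (S : Sit hp e σ g r t ζ c c0) : (∀ c : YY chevE6 p, c * t = t * c → c ∈ DZ hp p {t}) ∨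
      Nat.card ↥(DL.fix σ ⊓ Subgroup.centralizer {t}) ≤ 3 * ((p ^ e) ^ 24 * (p ^ e + 1) ^ 6) := by
  rcases (DZ_one hp (Or.inr (Or.inl rfl)) S.prime S.ne S.mem S.pow).2 with h | ⟨-, -, h⟩ | ⟨h, -⟩
  · exact Or.inl h
  · have h1 := S.card_le (n := 24) (by omega)
    rw [nmk_E6] at h1
    exact Or.inr h1
  · exact absurd (congrArg ChevalleyDatum.rank h) (by decide)

theorem three_le {q n : ℕ} (hq : 2 ≤ q) (a : ℕ) : 3 * (q ^ n * a) ≤ q ^ (n + 2) * a := by
  rw [← mul_assoc, pow_add, mul_comm (q ^ n)]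
  exact Nat.mul_le_mul_right _ (Nat.mul_le_mul_right _ ((by norm_num : 3 ≤ 2 ^ 2).trans (Nat.pow_le_pow_left hq 2)))

end CI

open CI

/-- [CI] -/
theorem boxCI : BoxCI := by
  intro D l M hp hD p _ e σ g he hσ Φ y hy h1 h2
  obtain ⟨x, σ', w, ζ, c, c0, S, h⟩ := exists_sit (hp := hp) he hσ Φ hy h1 h2
  rw [h]
  have hl := typ_l hp
  rcases hD with rfl | rfl | rfl | rfl
  · obtain rfl := hl.1 rfl
    have h3 := nK_F4 hp S.prime S.kac S.nt
    rw [bI, if_pos rfl]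
    split_ifs with h4
    · have h5 := S.card_le' (h3.2 (h4 ▸ h2))
      rwa [nmk_F4, one_mul] at h5
    · have h5 := S.card_le' h3.1
      rwa [nmk_F4, one_mul] at h5
  · obtain rfl := hl.2.1 rfl
    rw [bI, if_neg (by norm_num), if_pos rfl]
    rcases S.conn6 with h3 | h3
    · exact S.card_conn h3 (nK_E6 hp S.prime S.kac S.nt)
    · exact h3.trans ((three_le S.two_le _).trans
        (Nat.mul_le_mul_right _ (Nat.pow_le_pow_right (by have := S.two_le; omega) (by norm_num))))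
  · obtain rfl := hl.2.2.1 rfl
    rw [bI, if_neg (by norm_num), if_neg (by norm_num), if_pos rfl]
    have h5 := S.card_le' (nK_E7 hp S.prime S.kac S.nt)
    rwa [nmk_E7] at h5
  · obtain rfl := hl.2.2.2 rfl
    rw [bI, if_neg (by norm_num), if_neg (by norm_num), if_neg (by norm_num)]
    have h5 := S.card_le' (nK_E8 hp S.prime S.kac S.nt)
    rwa [nmk_E8, one_mul] at h5

/-- [CI6] -/
theorem boxCI6 : BoxCI6 := by
  intro p _ e σ g he hσ Φ y hy h1 h2
  obtain ⟨x, σ', w, ζ, c, c0, S, h⟩ := exists_sit (hp := hpE6) he hσ Φ hy h1 h2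
  rw [h]
  refine ⟨fun ⟨hq, v, hv⟩ => ?_, fun h3 h4 => ?_⟩
  · rcases S.conn6 with h3 | h3
    · rcases nK_E6' hpE6 S.prime S.kac S.nt with h4 | ⟨f, m, hf, h4⟩
      · have h5 := S.card_conn h3 h4
        rwa [hq] at h5
      · exfalso
        have hp2 : p = 2 := (Nat.prime_dvd_prime_iff_eq Fact.out Nat.prime_two).1 (hq ▸ dvd_pow_self p he.ne')
        have hm : ¬ ((orderOf y : ℕ) : ℤ) ∣ m := fun h5 => S.nt fun a => by
          have h6 := dvd_add (h4 a) (h5.mul_right (f a))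
          rwa [sub_add_cancel] at h6
        refine hf.not_two hpE6 h1 (hp2 ▸ h2) (w * v) fun a => ?_
        have h5 := S.dvd_act a
        rw [hq, AddEquiv.trans_apply, repAut_apply, hv, ← rep_mul_apply] at h5
        refine ((Nat.prime_iff_prime_int.1 h1).dvd_or_dvd (a := m) ?_).resolve_left hm
        have h6 := dvd_add (dvd_sub h5 (h4 (rep CoxeterMatrix.E₆.toCoxeterSystem hpE6.isCartan (w * v) a))) ((h4 a).mul_left 2)
        convert h6 using 1
        push_cast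
        ring
    · rw [hq] at h3
      exact h3.trans (by norm_num)
  · rcases S.conn6 with h5 | h5
    · rcases exists_fun_of_kac hpE6 (Or.inr (Or.inl rfl)) S.prime S.kac S.nt with ⟨i, h6, h7⟩ | ⟨f, hf, a, h6, h7⟩
      · have h8 : nK chevE6 6 (orderOf y) c ≤ 24 := by
          rw [nK_eq_nri h7, h3]
          rw [h3, hrE6] at h6
          obtain rfl : i = 3 := by
            clear h7
            revert h6 i
            decide
          exact nri_E6.2.le.trans (by norm_num)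
        exact (S.card_conn h5 h8).trans (Nat.le_mul_of_pos_left _ (by norm_num))
      · exfalso
        rcases h4 with h4 | ⟨z, h8, h9, h10⟩
        · exact h4 (lc_of_conj (S.lc (Or.inr (Or.inl rfl)) h5 hf h6 h7))
        · refine h10 (Tp.of_conj (c := x) (tp_of_mem_DZ (hp := hpE6) S.prime S.ne S.mem ⟨1, by rw [pow_one, S.pow]⟩
            (h5 _ (conj_comm h9)) ⟨1, ?_⟩))
          rw [pow_one, h3, conj_pow, h8, mul_one, mul_inv_cancel]
    · exact h5

end Cfsg.Agent.SB.Exc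

private theorem dce_36f84d69320b : _root_.True := by
  try have : _root_.True := by simp only [_root_.Cfsg.Agent.SB.Exc.bI.eq_1]
  exact _root_.True.intro
end

-- part: SB/Exc/Crit/Fix
section
set_option linter.all false
open scoped Cfsg.Agent.FastGrp

/-!
# S5765, exceptional groups: the order of the group of fixed points of a Frobenius map (helper90)
-/

set_option autoImplicit false
set_option linter.unusedSectionVars false

namespace Cfsg.Agent.SB.Exc.Crit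

open CoxeterSystem Cfsg Cfsg.Lie Cfsg.Lie.ChevalleyDatum
open Cfsg.Agent.ChevalleyStructure Cfsg.Agent.ChevalleyStructure.Elts Cfsg.Agent.ChevalleyStructure.CoxeterGeom
  Cfsg.Agent.ChevalleyStructure.CoxeterGeomTypes
open Cfsg.Agent.Tits.Roots Cfsg.Agent.Tits.Core Cfsg.Agent.Nodes Cfsg.Agent.Nodes.Reps Cfsg.Agent.Nodes.BNOf
  Cfsg.Agent.Nodes.RGDChev Cfsg.Agent.Nodes.Bruhat
open Cfsg.Agent.KFacts.RgdField Cfsg.Agent.KFacts.RgdChevCoord
open Cfsg.Agent.BpExc Cfsg.Agent.BpExc.TorCent Cfsg.Agent.BpExc.TorChev Cfsg.Agent.BpExc.Tow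
  Cfsg.Agent.BpExc.TowChev Cfsg.Agent.BpExc.Fr Cfsg.Agent.BpExc.LangFr
open Cfsg.Agent.H469.Exc Cfsg.Agent.H316.U6 Cfsg.Agent.H129.TorusChar Cfsg.Agent.DS.Ex Cfsg.Agent.H786.FC

/-- a split power with prescribed ratio -/
theorem split_of_frob {p : ℕ} [Fact p.Prime] {k : Type} [Field k] [CharP k p] [IsAlgClosed k] {Y : Type} [Group Y]
    {N : Type} [Fintype N] [DecidableEq N] {ρ : Y →* GL N k} {σ : MulAut Y} {H : Subgroup Y} (D : DL.Datum p ρ σ H)
    {d e : ℕ} (hd : 0 < d) (he : 0 < e) (h : ∀ y, ρ ((σ ^ d) y) = LangThm.frob p e (ρ y)) :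
    ∃ m, 0 < m ∧ D.Split (d * m) (e * m) := by
  obtain ⟨e₁, he₁, h₁⟩ := D.exists_level_x
  obtain ⟨e₂, he₂, h₂⟩ := D.exists_level_τ
  have h0 := D.e0_pos
  have hm : 0 < D.e0 * e₁ * e₂ := by positivity
  refine ⟨_, hm, ?_⟩
  have he' := Nat.mul_pos he hm
  have hd' : D.e0 * e₁ * e₂ ∣ e * (D.e0 * e₁ * e₂) := dvd_mul_left _ _
  have h3 : D.e0 ∣ e * (D.e0 * e₁ * e₂) := ((dvd_mul_right _ _).trans (dvd_mul_right _ _)).trans hd'
  have h4 := DL.Amb.pow_frob h (D.e0 * e₁ * e₂)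
  refine ⟨Nat.mul_pos hd hm, he', h3, h4, fun a ha u => D.amb.inj ?_, fun c => D.amb.inj ?_, fun i => D.amb.inj ?_⟩
  · rw [h4, h₁ _ (((dvd_mul_left _ _).trans (dvd_mul_right _ _)).trans hd') a ha]
  · rw [h4, h₂ _ ((dvd_mul_left _ _).trans hd')]
  · rw [h4]
    exact D.n_mem_lev he' h3 i

variable {D : ChevalleyDatum} {l : ℕ} {M : CoxeterMatrix (Fin l)} (hp : IsType D l M) {p : ℕ} [Fact p.Prime]

/-- every datum for a map of Frobenius type with exponent `n` has a split power of ratio `n` -/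
theorem split_of_isFrob {n : ℕ} (hn : 0 < n) {σ : MulAut (YY D p)} (hσ : IsFrob p n σ) {H : Subgroup (YY D p)}
    (E : DL.Datum p (D.group (KK p)).subtype σ H) : ∃ d, E.Split d (n * d) := by
  obtain ⟨d, hd, h⟩ := Sig.exists_pow_frob (locFin p) hσ
  obtain ⟨m, -, h1⟩ := split_of_frob E hd (Nat.mul_pos hd hn) h
  exact ⟨d * m, by rwa [← mul_assoc, mul_comm n d]⟩

include hp in
theorem typ_num (hD : Typ D) : D.nroots = 2 * nP l ∧ 0 < dM l ∧ (D = chevE6 → dM l = 3 ∧ D ≠ chevE7 ∧ D ≠ chevF4) := by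
  have h := rank_eq_of_inList hp.inList
  have h1 := hp.rank_eq
  refine ⟨?_, by unfold dM; split_ifs <;> norm_num, fun e => ?_⟩
  · rcases hD with rfl | rfl | rfl | rfl
    · obtain rfl : l = 4 := h1 ▸ h.2.2.2.1 rfl
      rfl
    · obtain rfl : l = 6 := h1 ▸ h.2.2.2.2.1 rfl
      rfl
    · obtain rfl : l = 7 := h1 ▸ h.2.2.2.2.2.1 rfl
      rfl
    · obtain rfl : l = 8 := h1 ▸ h.2.2.2.2.2.2 rfl
      rfl
  · have h2 := h.2.2.2.2.1 e
    obtain rfl : l = 6 := h1 ▸ h2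
    refine ⟨rfl, fun e' => ?_, fun e' => ?_⟩
    · have := h.2.2.2.2.2.1 e'
      omega
    · have := h.2.2.2.1 e'
      omega

theorem ncard_roots : {a | IsRoot M.toCoxeterSystem hp.isCartan a}.ncard ≤ D.nroots := by
  have h1 : {a | IsRoot M.toCoxeterSystem hp.isCartan a} = vec D l '' (Finset.range D.nroots : Set ℕ) := by
    ext a
    rw [Set.mem_ofPred_eq, isRoot_iff hp]
    simp
  rw [h1]
  refine (Set.ncard_image_le (Finset.finite_toSet _)).trans ?_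
  rw [Set.ncard_coe_finset, Finset.card_range]

/-- the order of the fixed group, standard frame -/
theorem card_fix_fr (hC : BoxCard) {n : ℕ} (hn : 0 < n) {σ : MulAut (YY D p)} (hσ : IsFrob p n σ)
    {g : (Fin l → ℤ) ≃+ (Fin l → ℤ)} (Φ : Fr M.toCoxeterSystem hp.isCartan (TT D (KK p)) (XX D l (KK p)) σ g) :
    Nat.card (DL.fix σ) ≤ (p ^ n) ^ D.nroots * (p ^ n + 1) ^ l := by
  obtain ⟨d, hd⟩ := split_of_isFrob hn hσ (DL.Ex.chevFr hp (locFin p) hn hσ Φ)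
  have h1 := (hC p (KK p) _ _ _ _ _ _ d n hd).2.2
  have h2 : DL.GF σ ⊤ = DL.fix σ := top_inf_eq _
  have h3 : Fintype.card (DL.Ex.chevFr hp (locFin p) hn hσ Φ).R = l := Fintype.card_fin l
  rw [h2, h3] at h1
  refine h1.trans (Nat.mul_le_mul_right _ (Nat.pow_le_pow_right (pow_pos (Fact.out : p.Prime).pos n) ?_))
  exact ncard_roots hp

/-- **The order of the fixed group.** -/
theorem card_fix (hC : BoxCard) {n : ℕ} (hn : 0 < n) {φ : MulAut (YY D p)} (hφ : IsFrob p n φ) {y : YY D p}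
    {g : (Fin l → ℤ) ≃+ (Fin l → ℤ)}
    (Φ : Fr M.toCoxeterSystem hp.isCartan (TT D (KK p)) (XX D l (KK p)) (MulAut.conj y * φ) g) :
    Finite (DL.fix φ) ∧ Nat.card (DL.fix φ) ≤ (p ^ n) ^ D.nroots * (p ^ n + 1) ^ l := by
  refine ⟨(DL.Ex.amb_of_isFrob (locFin p) hn hφ).finite_fix, ?_⟩
  have := (DL.Ex.amb_of_isFrob (locFin p) hn (hφ.conj_mul y)).finite_fix
  refine le_trans ?_ (card_fix_fr hp hC hn (hφ.conj_mul y) Φ)
  obtain ⟨z, hz⟩ := lang_all hp M.toCoxeterSystem hn (hφ.conj_mul y) Φ y⁻¹ y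
  rw [← mul_assoc, ← map_mul, inv_mul_cancel, map_one, one_mul] at hz
  refine Nat.card_le_card_of_injective (fun x : DL.fix φ => (⟨z⁻¹ * x * z, ?_⟩ : DL.fix (MulAut.conj y * φ))) ?_
  · have h1 : φ x = x := x.2
    show y * φ (z⁻¹ * x * z) * y⁻¹ = z⁻¹ * x * z
    rw [map_mul, map_mul, map_inv, h1, hz]
    group
  · intro x x' h
    have h1 : z⁻¹ * x * z = z⁻¹ * x' * z := congrArg Subtype.val h
    exact Subtype.ext (mul_left_cancel (mul_right_cancel h1))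

end Cfsg.Agent.SB.Exc.Crit
end

-- part: SB/Exc/Tor/Set
section
prune_inst 0x480105440002202000018001060002200000000000040800081000200020084420001000100200012001080000000006811000020400000000000000000040000102a4600e299000c800018810000000000000000000000000000000000000000000000000
set_option linter.all false
open scoped Cfsg.Agent.FastGrp

/-!
# S5765, exceptional groups, toral case: the torus and the setting (helper64)

* `tors n`, `Kr f` : subgroups of the torus; `card_Kr`, `Kr_triv`;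
* `rp_map`, `comm_of_rp`, `rp_fr` : frame automorphisms and representatives;
* `TC` : all lifts of `S` normalise the torus, no root is trivial on a non-trivial invariant subgroup; `exists_TC`;
* `TC.cent`, `TC.ell`.
-/

set_option autoImplicit false
set_option linter.unusedSectionVars false

namespace Cfsg.Agent.SB.Exc.Tor

open CoxeterSystem Cfsg Cfsg.Lie Cfsg.Lie.ChevalleyDatum
open Cfsg.Agent.ChevalleyStructure Cfsg.Agent.ChevalleyStructure.CoxeterGeom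
  Cfsg.Agent.ChevalleyStructure.CoxeterGeomTypes
open Cfsg.Agent.Tits.Roots Cfsg.Agent.Nodes Cfsg.Agent.Nodes.BNOf Cfsg.Agent.Nodes.RGDChev
open Cfsg.Agent.KFacts.RgdChevCoord
open Cfsg.Agent.BpExc Cfsg.Agent.BpExc.TorChev Cfsg.Agent.BpExc.Fr Cfsg.Agent.BpExc.LangFr
open Cfsg.Agent.H469.Exc Cfsg.Agent.H316.U6 Cfsg.Agent.H129.TorusChar Cfsg.Agent.DS.Ex Cfsg.Agent.DS.Ex.Tor
  Cfsg.Agent.DS.Nt Cfsg.Agent.H786.FC

variable {D : ChevalleyDatum} {l : ℕ} {M : CoxeterMatrix (Fin l)} (hp : IsType D l M) (p : ℕ) [Fact p.Prime]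

/-- the reflection representation -/
abbrev rp : M.Group →* En l := rep M.toCoxeterSystem hp.isCartan

/-- the elements of the torus of order dividing `n` -/
def tors (n : ℕ) : Subgroup (YY D p) where
  carrier := {t | t ∈ TT D (KK p) ∧ t ^ n = 1}
  one_mem' := ⟨one_mem _, one_pow _⟩
  mul_mem' := fun {a b} ha hb => ⟨mul_mem ha.1 hb.1, by
    rw [(show Commute a b from TT_comm hp a ha.1 b hb.1).mul_pow, ha.2, hb.2, one_mul]⟩
  inv_mem' := fun {a} ha => ⟨inv_mem ha.1, by rw [inv_pow, ha.2, inv_one]⟩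

/-- the elements of the torus trivial on the image of `f` -/
def Kr (f : En l) : Subgroup (YY D p) where
  carrier := {t | t ∈ TT D (KK p) ∧ ∀ x, cX hp t (f x) = 1}
  one_mem' := ⟨one_mem _, fun _ => cX_one hp _⟩
  mul_mem' := fun {a b} ha hb => ⟨mul_mem ha.1 hb.1, fun x => by rw [cX_mul hp ha.1 hb.1, ha.2, hb.2, one_mul]⟩
  inv_mem' := fun {a} ha => ⟨inv_mem ha.1, fun x => by
    have h := cX_mul hp (inv_mem ha.1) ha.1 (f x)
    rw [inv_mul_cancel, cX_one, ha.2, mul_one] at h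
    exact h.symm⟩

variable {hp p}

theorem finite_tors {n : ℕ} (hn : 0 < n) : Finite (tors hp p n) := by
  classical
  refine Finite.of_injective (fun t : tors hp p n => fun i : Fin l =>
    (⟨cX hp t.1 (sr i), (Polynomial.mem_nthRootsFinset hn 1).2 (by rw [← cX_pow hp t.2.1, t.2.2, cX_one])⟩ :
      Polynomial.nthRootsFinset n (1 : KK p))) fun a b h => ?_
  exact Subtype.ext (cX_inj hp a.2.1 b.2.1 fun i => congrArg Subtype.val (congrFun h i))

theorem exists_ord (hp : IsType D l M) {t : YY D p} (ht : t ∈ TT D (KK p)) : ∃ n, 0 < n ∧ t ^ n = 1 := by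
  choose m hm using fun i : Fin l => TorAll.hAlg_of_isAlgebraic p (KK p) (cX hp t (sr i))
  have h1 : ∀ i, 1 < p ^ m i := fun i => Nat.one_lt_pow (hm i).1.ne' (Fact.out : p.Prime).one_lt
  refine ⟨∏ i, (p ^ m i - 1), Finset.prod_pos fun i _ => Nat.sub_pos_of_lt (h1 i),
    cX_inj hp (pow_mem ht _) (one_mem _) fun i => ?_⟩
  obtain ⟨c, hc⟩ := Finset.dvd_prod_of_mem (fun i => p ^ m i - 1) (Finset.mem_univ i)
  have h2 : cX hp t (sr i) ^ (p ^ m i - 1) = 1 := by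
    apply mul_right_cancel₀ ((isMC_cX hp ht).ne_zero (sr i))
    rw [← pow_succ, Nat.sub_add_cancel (h1 i).le, (hm i).2, one_mul]
  rw [cX_pow hp ht, cX_one, hc, pow_mul, h2, one_pow]

open Cfsg.Agent.H378.TorDual Cfsg.Agent.H378.TorChar in
theorem tchar_eq {t : YY D p} (ht : t ∈ TT D (KK p)) (x : Fin l → ℤ) :
    ((tchar hp ⟨t, ht⟩ (Multiplicative.ofAdd x) : (KK p)ˣ) : KK p) = cX hp t x := by
  change ((∏ i, uch hp i ⟨t, ht⟩ ^ x i : (KK p)ˣ) : KK p) = _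
  rw [Units.coe_prod]
  exact Finset.prod_congr rfl fun i _ => Units.val_zpow_eq_zpow_val _ _

open Cfsg.Agent.H378.TorDual Cfsg.Agent.H378.TorChar in
theorem exists_tchar (hD : Typ D) (φ : Ch l (KK p)) : ∃ t, ∃ ht : t ∈ TT D (KK p), tchar hp ⟨t, ht⟩ = φ := by
  obtain ⟨t, ht, h⟩ := exists_tor hp hD (φ := fun x => (φ (Multiplicative.ofAdd x) : KK p))
    ⟨congrArg Units.val φ.map_one, fun x y => congrArg Units.val (φ.map_mul _ _)⟩
  exact ⟨t, ht, MonoidHom.ext fun x => Units.ext ((tchar_eq ht _).trans (h _))⟩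

open Cfsg.Agent.H378.TorDual Cfsg.Agent.H378.TorChar in
theorem card_Kr (hD : Typ D) {f : En l} (hf : ((LinearMap.det f : ℤ) : KK p) ≠ 0) :
    Nat.card (Kr hp p f) = (LinearMap.det f).natAbs := by
  rw [← card_kerOf (KK p) hf]
  refine Nat.card_congr (Equiv.ofBijective (fun t : Kr hp p f => (⟨tchar hp ⟨t, t.2.1⟩, fun x =>
    Units.ext ((tchar_eq t.2.1 _).trans (t.2.2 x))⟩ : KerOf (KK p) f)) ⟨fun a b h => ?_, fun φ => ?_⟩)
  · have h1 : (⟨a, a.2.1⟩ : ↥(TT D (KK p))) = ⟨b, b.2.1⟩ := tchar_injective hp (congrArg Subtype.val h)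
    exact Subtype.ext (congrArg (fun x : ↥(TT D (KK p)) => x.1) h1)
  · obtain ⟨t, ht, h⟩ := exists_tchar (hp := hp) hD φ.1
    exact ⟨⟨t, ht, fun x => by rw [← tchar_eq ht, h, φ.2 x, Units.val_one]⟩, Subtype.ext h⟩

open Cfsg.Agent.H378.TorDual Cfsg.Agent.H378.TorChar in
theorem Kr_triv (hD : Typ D) {f : En l} (hf : ((LinearMap.det f : ℤ) : KK p) ≠ 0) {x : Fin l → ℤ}
    (h : ∀ t ∈ Kr hp p f, cX hp t x = 1) : ∃ y, f y = x := by
  refine (eq_one_on_iff (KK p) hf x).1 fun φ hφ => ?_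
  obtain ⟨t, ht, rfl⟩ := exists_tchar (hp := hp) hD φ
  exact Units.ext ((tchar_eq ht _).trans (h t ⟨ht, fun y => by rw [← tchar_eq ht, hφ y, Units.val_one]⟩))

theorem mem_Kr_sub {w : M.Group} {t : YY D p} (ht : t ∈ TT D (KK p)) :
    t ∈ Kr hp p (rp hp w - 1) ↔ ∀ x, cX hp t (rp hp w x) = cX hp t x := by
  refine (and_iff_right ht).trans (forall_congr' fun x => ?_)
  rw [LinearMap.sub_apply, Module.End.one_apply, (isMC_cX hp ht).sub, div_eq_one_iff_eq ((isMC_cX hp ht).ne_zero x)]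

/-! ### frame automorphisms and representatives -/

theorem rp_map {φ : MulAut (YY D p)} (hφ : ∀ t, φ t ∈ TT D (KK p) ↔ t ∈ TT D (KK p)) {w : M.Group} {k : YY D p}
    (hk : RP hp p w k) : ∃ w', RP hp p w' (φ k) := rp_of_norm fun s => by
  obtain ⟨s', rfl⟩ := φ.surjective s
  rw [← map_mul, ← map_inv, ← map_mul, hφ, hφ]
  exact hk.conj_iff s'

theorem comm_of_rp {φ : MulAut (YY D p)} {h : (Fin l → ℤ) ≃+ (Fin l → ℤ)} (F : FR hp p φ h) {w w' : M.Group}
    {k : YY D p} (hk : RP hp p w k) (hk' : RP hp p w' (φ k)) (a : Fin l → ℤ) : h (rp hp w a) = rp hp w' (h a) := by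
  have h1 := F.mul hk.fr
  rw [mul_conj_eq] at h1
  exact DFunLike.congr_fun (fr_unique (hp := hp) h1 (hk'.fr.mul F)) a

theorem rp_fr {φ : MulAut (YY D p)} {h : (Fin l → ℤ) ≃+ (Fin l → ℤ)} (F : FR hp p φ h) {w : M.Group} {k : YY D p}
    (hk : RP hp p w k) (hw : ∀ a, h (rp hp w a) = rp hp w (h a)) : RP hp p w (φ k) := by
  obtain ⟨w', hw'⟩ := rp_map F.tor hk
  have h1 : w' = w := rep_injective _ hp.isCartan (LinearMap.ext fun a => by
    obtain ⟨a, rfl⟩ := h.surjective a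
    rw [← comm_of_rp F hk hw', hw])
  rwa [h1] at hw'

theorem rp_T {w : M.Group} {k k' : YY D p} (hk : RP hp p w k) (hk' : RP hp p w k') : k⁻¹ * k' ∈ TT D (KK p) := by
  have h := hk.inv.mul hk'
  rw [inv_mul_cancel] at h
  exact h.mem_T

theorem Mz_eq_one {A : Subgroup (YY D p)} (hA : A ≤ TT D (KK p)) (h : ∀ b, RT hp b → ∃ a ∈ A, cX hp a b ≠ 1)
    {m : YY D p} (hm : m ∈ Mz hp p A) : m = 1 := by
  refine Subgroup.mem_bot.1 (Mz_le (fun b hb => ?_) hm)
  obtain ⟨a, ha, h1⟩ := h b hb.1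
  exact absurd (((mem_Ps hA).1 hb).2 a ha) h1

/-! ### the setting -/

variable {G : Type} [Group G] [Finite G] {T S : Subgroup G}

/-- **The setting.** -/
structure TC (S : Subgroup G) (L : Lift hp p T) (e : ℕ) (v : M.Group) (ε : ℤˣ) (g : (Fin l → ℤ) ≃+ (Fin l → ℤ)) :
    Prop where
  typ : Typ D
  ctx : Ctx p T S
  he : 0 < e
  frob : IsFrob p e L.σ
  fr : FR hp p L.σ g
  hg : ∀ a, g a = (ε : ℤ) • rp hp v a
  hε : ε = 1 ∨ D = chevE6
  nrm : ∀ φ ∈ L.GH S, ∀ t, φ t ∈ TT D (KK p) ↔ t ∈ TT D (KK p)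
  sfr : (D = chevF4 → p ≠ 2) → ∀ φ ∈ L.GH S, ∃ h, FR hp p φ h
  pure : ∀ A : Subgroup (YY D p), A ≤ TT D (KK p) → A ≠ ⊥ → (∀ φ ∈ L.GH S, ∀ a ∈ A, φ a ∈ A) →
    ∀ b, RT hp b → ∃ a ∈ A, cX hp a b ≠ 1

theorem exists_TC (hD : Typ D) (C : Ctx p T S) {q : ℕ} (F : XF hp p q T) {A₀ : Subgroup (YY D p)} (h0 : A₀ ≠ ⊥)
    (hI : F.L.Inv S A₀) (hT : Toral p A₀) (hN : ∀ A₁ : Subgroup (YY D p), A₁ ≠ ⊥ → F.L.Inv S A₁ → ¬ HasRt hp p A₁) :
    ∃ z v ε g, TC S (F.L.conj z) F.m.e v ε g := by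
  obtain ⟨z, hz⟩ := hT
  have pure : ∀ A : Subgroup (YY D p), A ≤ TT D (KK p) → A ≠ ⊥ → (∀ φ ∈ (F.L.conj z).GH S, ∀ a ∈ A, φ a ∈ A) →
      ∀ b, RT hp b → ∃ a ∈ A, cX hp a b ≠ 1 := by
    intro A hA hA0 hAI b hb
    by_contra h
    push Not at h
    refine hN (A.comap (MulAut.conj z).toMonoidHom) (fun e => hA0 ?_) ?_ ⟨z, fun a ha => hA ha, b, hb, fun a ha => h _ ha⟩
    · rw [← Subgroup.map_comap_eq_self_of_surjective (f := (MulAut.conj z).toMonoidHom) (MulAut.conj z).surjective A, e,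
        Subgroup.map_bot]
    · rw [Lift.inv_iff]
      intro φ hφ a ha
      have h1 := hAI (MulAut.conj z * φ * (MulAut.conj z)⁻¹) ((F.L.mem_GH_conj z).2 (by rwa [Lift.cf_conj])) _ ha
      change (MulAut.conj z * φ * (MulAut.conj z)⁻¹) (MulAut.conj z a) ∈ A at h1
      rwa [MulAut.mul_apply, MulAut.inv_apply_self] at h1
  have h1 := (Lift.inv_iff _).1 (F.L.inv_conj z hI)
  obtain ⟨a, ha, ha1⟩ : ∃ a ∈ A₀, a ≠ 1 := by
    by_contra h
    push Not at h
    exact h0 ((Subgroup.eq_bot_iff_forall _).2 h)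
  obtain ⟨n, hn, han⟩ := exists_ord hp (hz a ha)
  have hfin := finite_tors (hp := hp) (p := p) hn
  set B := A₀.map (MulAut.conj z).toMonoidHom ⊓ tors hp p n with hB
  have hBf : Finite B := Finite.of_injective _ (Subgroup.inclusion_injective (inf_le_right : B ≤ tors hp p n))
  have hBT : B ≤ TT D (KK p) := fun x hx => hx.2.1
  have hBI : ∀ φ ∈ (F.L.conj z).GH S, ∀ a ∈ B, φ a ∈ B := fun φ hφ x hx => by
    have h2 := h1 φ hφ x hx.1
    refine ⟨h2, ?_, by rw [← map_pow, hx.2.2, map_one]⟩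
    obtain ⟨y, hy, e⟩ := h2
    rw [← e]
    exact hz y hy
  have hB0 : B ≠ ⊥ := fun e => by
    have h2 : z * a * z⁻¹ ∈ B := ⟨⟨a, ha, rfl⟩, hz a ha, han⟩
    rw [e, Subgroup.mem_bot, mul_inv_eq_one, mul_eq_left] at h2
    exact ha1 h2
  have step : ∀ φ ∈ (F.L.conj z).GH S, ∀ y : YY D p, (∀ t ∈ TT D (KK p), (MulAut.conj y * φ) t ∈ TT D (KK p)) →
      ∃ w k, RP hp p w k ∧ φ = MulAut.conj k * (MulAut.conj y * φ) := fun φ hφ y hy => by
    obtain ⟨m, hm, w, k, hk, e, -⟩ := form0 (hp := hp) hBT (hBI φ hφ) hy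
    rw [Mz_eq_one hBT (pure B hBT hB0 hBI) hm, map_one, one_mul] at e
    exact ⟨w, k, hk, e⟩
  have hσ : MulAut.conj (z * (F.L.σ z)⁻¹)⁻¹ * (F.L.conj z).σ = F.m.σ := by
    rw [Lift.conj_σ, conj_form, ← mul_assoc, ← map_mul, inv_mul_cancel, map_one, one_mul, F.hσ]
  obtain ⟨w, k, hk, e⟩ := step _ ((F.L.conj z).σ_mem_GH C.as.normal C.as.cent S) (z * (F.L.σ z)⁻¹)⁻¹
    fun t ht => by rw [hσ]; exact (F.m.fr.tor t).2 ht
  rw [hσ] at e
  have hnrm : ∀ φ ∈ (F.L.conj z).GH S, ∀ t, φ t ∈ TT D (KK p) ↔ t ∈ TT D (KK p) := fun φ hφ => by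
    obtain ⟨y, hy⟩ := (F.L.conj z).wfr φ ((F.L.conj z).GH_le S hφ)
    obtain ⟨w, k, hk, e⟩ := step φ hφ y fun t ht => (hy.1 t).2 ht
    rw [e]
    exact (wfr_rp hy hk).1
  have hsfr : (D = chevF4 → p ≠ 2) → ∀ φ ∈ (F.L.conj z).GH S, ∃ h, FR hp p φ h := fun h2 φ hφ => by
    obtain ⟨y, h, hy, -⟩ := (F.L.conj z).sfr h2 φ ((F.L.conj z).GH_le S hφ)
    obtain ⟨w, k, hk, e⟩ := step φ hφ y fun t ht => (hy.tor t).2 ht
    rw [e]
    exact ⟨_, hk.fr.mul hy⟩
  have hfr : FR hp p (F.L.conj z).σ (F.m.g.trans (repAut M.toCoxeterSystem hp.isCartan w)) := by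
    rw [e]
    exact hk.fr.mul F.m.fr
  have hfrob : IsFrob p F.m.e (F.L.conj z).σ := by
    rw [e]
    exact F.m.frob.conj_mul k
  obtain ⟨w0, h2 | ⟨h2, h3⟩⟩ := F.gW
  · exact ⟨z, w * w0, 1, _, hD, C, F.m.he, hfrob, hfr, fun a => by
      rw [AddEquiv.trans_apply, repAut_apply, h2, Units.val_one, one_smul, rep_mul_apply], Or.inl rfl, hnrm, hsfr, pure⟩
  · exact ⟨z, w * w0, -1, _, hD, C, F.m.he, hfrob, hfr, fun a => by
      rw [AddEquiv.trans_apply, repAut_apply, h3, Units.val_neg, Units.val_one, neg_one_smul, rep_mul_apply, map_neg],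
      Or.inr h2, hnrm, hsfr, pure⟩

variable {L : Lift hp p T} {e : ℕ} {v : M.Group} {ε : ℤˣ} {g : (Fin l → ℤ) ≃+ (Fin l → ℤ)}

/-- `w` is fixed by the lifts of `S` -/
def Cn (S : Subgroup G) (L : Lift hp p T) (w : M.Group) : Prop := ∃ k, RP hp p w k ∧ ∀ φ ∈ L.GH S, RP hp p w (φ k)

theorem Cn.pow {w : M.Group} (h : Cn S L w) (n : ℕ) : Cn S L (w ^ n) := by
  obtain ⟨k, h1, h2⟩ := h
  exact ⟨k ^ n, h1.pow n, fun φ hφ => by rw [map_pow]; exact (h2 φ hφ).pow n⟩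

namespace TC

variable (H : TC S L e v ε g)
include H

/-- **Centralizers of invariant subgroups.** -/
theorem cent {A : Subgroup (YY D p)} {r : ℕ} (hr : r.Prime) (hA : A ≤ tors hp p r) (h0 : A ≠ ⊥)
    (hI : ∀ φ ∈ L.GH S, ∀ a ∈ A, φ a ∈ A) {w : M.Group} {k : YY D p} (hk : RP hp p w k) (hc : ∀ a ∈ A, k * a = a * k) :
    ∃ n : ℕ, w ^ r ^ n = 1 := by
  have := finW hp
  have := finite_tors (hp := hp) (p := p) hr.pos
  have hf : Finite A := Finite.of_injective _ (Subgroup.inclusion_injective hA)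
  have hT : A ≤ TT D (KK p) := fun a ha => (hA ha).1
  obtain ⟨m, hm, w', hw', k', hk', -, e⟩ := form hp (Z := (A : Set (YY D p))) (Set.toFinite _) hT (c := k) (fun a ha => hc a ha)
  rw [Mz_eq_one hT (H.pure A hT h0 hI) hm, one_mul] at e
  rw [hk.unique (e ▸ hk')]
  exact pp_pow hT hr (fun t ht => ⟨1, by rw [pow_one]; exact (hA ht).2⟩) hw'

theorem inv_Kr {w : M.Group} (hw : Cn S L w) : ∀ φ ∈ L.GH S, ∀ a ∈ Kr hp p (rp hp w - 1), φ a ∈ Kr hp p (rp hp w - 1) := by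
  obtain ⟨k, h1, h2⟩ := hw
  intro φ hφ a ha
  have h3 := (H.nrm φ hφ a).2 ha.1
  refine (mem_Kr_sub h3).2 ((h2 φ hφ).cX_of_comm h3 ?_)
  rw [← map_mul, ← map_mul, h1.comm ha.1 ((mem_Kr_sub ha.1).1 ha)]

theorem inv_tors (n : ℕ) : ∀ φ ∈ L.GH S, ∀ a ∈ tors hp p n, φ a ∈ tors hp p n := fun φ hφ a ha =>
  ⟨(H.nrm φ hφ a).2 ha.1, by rw [← map_pow, ha.2, map_one]⟩

theorem cn (h2 : D = chevF4 → p ≠ 2) : Cn S L v := by
  obtain ⟨k, hk⟩ := exists_RP hp p v
  refine ⟨k, hk, fun φ hφ => ?_⟩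
  obtain ⟨h, F⟩ := H.sfr h2 φ hφ
  refine rp_fr F hk fun a => ?_
  have h1 := F.mul H.fr
  rw [L.comm_σ φ (L.GH_le S hφ)] at h1
  have h3 : h (g a) = g (h a) := DFunLike.congr_fun (fr_unique (hp := hp) h1 (H.fr.mul F)) a
  rw [H.hg, H.hg, map_zsmul] at h3
  exact smul_right_injective _ ε.ne_zero h3

/-- **An invariant element of `W` is trivial or has no fixed vector.** -/
theorem ell {w : M.Group} (hw : Cn S L w) : w = 1 ∨ Ell (rp hp w) := by
  have := finW hp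
  refine or_iff_not_imp_right.2 fun h => ?_
  obtain ⟨x, hx, hx0⟩ : ∃ x, rp hp w x = x ∧ x ≠ 0 := by
    by_contra h1
    push Not at h1
    exact h h1
  obtain ⟨j, hj⟩ := Function.ne_iff.1 hx0
  have hn : 0 < Nat.card M.Group := Nat.card_pos
  have hwn : rp hp w ^ Nat.card M.Group = 1 := by rw [← map_pow, pow_card_eq_one', map_one]
  obtain ⟨s, hs1, hs⟩ := Nat.exists_infinite_primes (Nat.card M.Group * (x j).natAbs + p + 1)
  have hx1 : 0 < (x j).natAbs := Int.natAbs_pos.2 hj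
  have hpos := Nat.mul_pos hn hx1
  obtain ⟨ζ, hζ⟩ := exists_prim (p := p) hs (by omega)
  let f : (Fin l → ℤ) →+ ℤ := (Pi.evalAddMonoidHom (fun _ => ℤ) j).comp
    (∑ i ∈ Finset.range (Nat.card M.Group), rp hp w ^ i).toAddMonoidHom
  have hf : ∀ y, f y = (∑ i ∈ Finset.range (Nat.card M.Group), rp hp w ^ i) y j := fun _ => rfl
  obtain ⟨t, ht, h1⟩ := exists_tor_zpow hp H.typ (hζ.ne_zero hs.ne_zero) f
  obtain ⟨k, hk, hk'⟩ := hw
  have hne : Kr hp p (rp hp w - 1) ⊓ tors hp p s ≠ ⊥ := fun e => by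
    have h3 : t ∈ Kr hp p (rp hp w - 1) ⊓ tors hp p s := ⟨(mem_Kr_sub ht).2 fun y => by
      rw [h1, h1, hf, hf, apply_sum hwn], ht, pow_eq_one_of_cX (hp := hp) ht fun y => by
      rw [h1, ← zpow_natCast, ← zpow_mul, mul_comm, zpow_mul, zpow_natCast, hζ.pow_eq_one, one_zpow]⟩
    rw [e, Subgroup.mem_bot] at h3
    have h4 := h1 x
    rw [h3, cX_one, hf, sum_fix hx, eq_comm, hζ.zpow_eq_one_iff_dvd, Pi.smul_apply, smul_eq_mul] at h4
    have h5 : s ≤ _ := Nat.le_of_dvd hpos (by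
      have h6 := Int.natAbs_dvd_natAbs.2 h4
      rwa [Int.natAbs_mul, Int.natAbs_natCast, Int.natAbs_natCast] at h6)
    omega
  obtain ⟨n, h2⟩ := H.cent hs inf_le_right hne
    (fun φ hφ a ha => ⟨H.inv_Kr ⟨k, hk, hk'⟩ φ hφ a ha.1, H.inv_tors s φ hφ a ha.2⟩) hk
    fun a ha => hk.comm ha.1.1 ((mem_Kr_sub ha.1.1).1 ha.1)
  have h3 : (s ^ n).Coprime (Nat.card M.Group) := Nat.Coprime.pow_left n ((Nat.Prime.coprime_iff_not_dvd hs).2 fun h4 => by
    have h5 := Nat.le_of_dvd hn h4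
    nlinarith)
  rw [← orderOf_eq_one_iff]
  exact Nat.eq_one_of_dvd_coprimes h3 (orderOf_dvd_of_pow_eq_one h2) (orderOf_dvd_natCard w)

end TC

end Cfsg.Agent.SB.Exc.Tor

private theorem dce_ff73c631a108 : _root_.True := by
  try have : _root_.True := by simp only [_root_.Cfsg.Agent.SB.Exc.Tor.rp.congr_simp]
  exact _root_.True.intro
end

-- part: SB/Exc/NT/Ind
section
prune_inst 0x4f0005140050000000000000040003e2220000192006b8001d1000b400606ff0200020720408009000000a2000004000810000060000000000000000000010000102806007081a008c20011013006100000000000000000000000000000041000000000000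
set_option linter.all false
open scoped Cfsg.Agent.FastGrp

/-!
# S5765, exceptional groups: inner-diagonal elements, the Fitting subgroup, arithmetic (helper86)

* `theta F hT : F.ID hT →* Y` : the element of `Y` inducing an inner-diagonal element;
* `card_le_dM`, `card_ID_le` : the index of `T` in the inner-diagonal group;
* `setup`, `ntCtx` : the contexts of DS;
* `le_fit`, `fit_cent`, `card_le_aut`, `card_mulAut_le`;
* `scale`, `crit` : `BoxCrit` from inequalities for the smallest `q`.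
-/

set_option autoImplicit false
set_option linter.unusedSectionVars false

namespace Cfsg.Agent.SB.Exc.NT

open CoxeterSystem Cfsg Cfsg.Lie Cfsg.Lie.ChevalleyDatum
open Cfsg.Agent.ChevalleyStructure Cfsg.Agent.Nodes.RGDChev Cfsg.Agent.KFacts.RgdChevCoord
open Cfsg.Agent.H469.Exc Cfsg.Agent.H316.U6 Cfsg.Agent.DS.Ex Cfsg.Agent.H786.FC

section Theta

variable {D : ChevalleyDatum} {l : ℕ} {M : CoxeterMatrix (Fin l)} {hp : IsType D l M} {p : ℕ} [Fact p.Prime]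
  {q : ℕ} {G : Type} [Group G] {T S : Subgroup G} {F : XF hp p q T}

theorem ind_unique (hT : T.Normal) {y y' : YY D p} {c : G} (h : F.Ind y c) (h' : F.Ind y' c) : y = y' := by
  have h1 : y'⁻¹ * y = 1 := F.L.cent _ fun x => by
    have h2 := h x ⟨c * x * c⁻¹, hT.conj_mem _ x.2 c⟩ rfl
    have h3 := h' x ⟨c * x * c⁻¹, hT.conj_mem _ x.2 c⟩ rfl
    calc y'⁻¹ * y * F.L.ι x = y'⁻¹ * (y * F.L.ι x * y⁻¹) * y := by group
      _ = y'⁻¹ * (y' * F.L.ι x * y'⁻¹) * y := by rw [h2, h3]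
      _ = _ := by group
  exact (inv_mul_eq_one.1 h1).symm

theorem ind_mul (hT : T.Normal) {y y' : YY D p} {c c' : G} (h : F.Ind y c) (h' : F.Ind y' c') :
    F.Ind (y * y') (c * c') := fun x x' e => by
  have h1 := h' x ⟨c' * x * c'⁻¹, hT.conj_mem _ x.2 c'⟩ rfl
  have h2 := h ⟨c' * x * c'⁻¹, hT.conj_mem _ x.2 c'⟩ x' (by rw [e]; group)
  rw [← h2, ← h1]
  group

theorem ind_iota (x : T) : F.Ind (F.L.ι x) x := fun u u' e => by
  rw [← map_inv, ← map_mul, ← map_mul]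
  congr 1
  exact Subtype.ext e.symm

theorem ind_fix {y : YY D p} {c : G} (h : F.Ind y c) : F.L.σ y = y := by
  have h1 := F.L.comm_σ _ (F.L.full y c h)
  have h2 : y⁻¹ * F.L.σ y = 1 := F.L.cent _ fun x => by
    have h3 := congrArg (fun β : MulAut (YY D p) => β (F.L.ι x)) h1
    simp only [MulAut.mul_apply, MulAut.conj_apply, map_mul, map_inv, F.L.fix] at h3
    calc y⁻¹ * F.L.σ y * F.L.ι x = y⁻¹ * (F.L.σ y * F.L.ι x * (F.L.σ y)⁻¹) * F.L.σ y := by group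
      _ = y⁻¹ * (y * F.L.ι x * y⁻¹) * F.L.σ y := by rw [h3]
      _ = _ := by group
  exact (inv_mul_eq_one.1 h2).symm

theorem ind_app (hT : T.Normal) {y : YY D p} {c : G} (h : F.Ind y c) (φ : F.L.Γ) :
    F.Ind ((φ : MulAut (YY D p)) y) (F.L.π φ * c * (F.L.π φ)⁻¹) := fun x x' e => by
  have h1 := F.L.act φ ⟨(F.L.π φ)⁻¹ * x * (F.L.π φ)⁻¹⁻¹, hT.conj_mem _ x.2 _⟩ x (by
    show (x : G) = _ * ((F.L.π φ)⁻¹ * x * (F.L.π φ)⁻¹⁻¹) * _
    group)
  have h2 := F.L.act φ ⟨(F.L.π φ)⁻¹ * x' * (F.L.π φ)⁻¹⁻¹, hT.conj_mem _ x'.2 _⟩ x' (by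
    show (x' : G) = _ * ((F.L.π φ)⁻¹ * x' * (F.L.π φ)⁻¹⁻¹) * _
    group)
  have h3 := h ⟨(F.L.π φ)⁻¹ * x * (F.L.π φ)⁻¹⁻¹, hT.conj_mem _ x.2 _⟩
    ⟨(F.L.π φ)⁻¹ * x' * (F.L.π φ)⁻¹⁻¹, hT.conj_mem _ x'.2 _⟩ (by
      show (F.L.π φ)⁻¹ * x' * (F.L.π φ)⁻¹⁻¹ = c * ((F.L.π φ)⁻¹ * x * (F.L.π φ)⁻¹⁻¹) * c⁻¹
      rw [e]
      group)
  rw [← h2, ← h3, map_mul, map_mul, map_inv, h1]

theorem ind_comm {y : YY D p} {c : G} (h : F.Ind y c) {x : T} (hx : c * x = x * c) : y * F.L.ι x = F.L.ι x * y := by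
  have h1 := h x x (by rw [hx, mul_inv_cancel_right])
  exact mul_inv_eq_iff_eq_mul.1 h1

variable (F) in
/-- the element of `Y` inducing an inner-diagonal element -/
noncomputable def theta (hT : T.Normal) : F.ID hT →* YY D p :=
  MonoidHom.mk' (fun c => Classical.choose c.2) fun c c' => ind_unique hT (Classical.choose_spec (c * c').2)
    (ind_mul hT (Classical.choose_spec c.2) (Classical.choose_spec c'.2))

theorem theta_ind (hT : T.Normal) (c : F.ID hT) : F.Ind (theta F hT c) c := Classical.choose_spec c.2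

theorem theta_eq (hT : T.Normal) {y : YY D p} {c : G} (h : F.Ind y c) : theta F hT ⟨c, y, h⟩ = y :=
  ind_unique hT (theta_ind hT _) h

theorem le_ID (hT : T.Normal) : T ≤ F.ID hT := fun x hx => ⟨_, ind_iota ⟨x, hx⟩⟩

theorem theta_iota (hT : T.Normal) (x : T) : theta F hT ⟨x, le_ID hT x.2⟩ = F.L.ι x := theta_eq hT (ind_iota x)

theorem theta_inj (hT : AS T) : Function.Injective (theta F hT.normal) := by
  rw [injective_iff_map_eq_one]
  intro c hc
  have h1 : (c : G) ∈ Subgroup.centralizer (T : Set G) := Subgroup.mem_centralizer_iff.2 fun x hx => by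
    have h2 := theta_ind hT.normal c ⟨x, hx⟩ ⟨c * x * (c : G)⁻¹, hT.normal.conj_mem _ hx c⟩ rfl
    rw [hc, one_mul, inv_one, mul_one] at h2
    have h3 : x = c * x * (c : G)⁻¹ := congrArg Subtype.val (F.L.inj h2)
    exact (mul_inv_eq_iff_eq_mul.1 h3.symm).symm
  rw [hT.cent, Subgroup.mem_bot] at h1
  exact Subtype.ext h1

theorem mem_T_of_ind (hT : AS T) {y : YY D p} {c : G} (h : F.Ind y c) (hy : y ∈ F.L.ι.range) : c ∈ T := by
  obtain ⟨x, rfl⟩ := hy
  have h1 : (⟨c, _, h⟩ : F.ID hT.normal) = ⟨x, le_ID hT.normal x.2⟩ :=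
    theta_inj hT (by rw [theta_eq hT.normal h, theta_iota])
  rw [show c = x from congrArg Subtype.val h1]
  exact x.2

theorem conj_mem_ID (hT : T.Normal) {c : G} (hc : c ∈ F.ID hT) (g : G) : g * c * g⁻¹ ∈ F.ID hT := by
  obtain ⟨y, hy⟩ := hc
  obtain ⟨φ, rfl⟩ := F.L.surj g
  exact ⟨_, ind_app hT hy φ⟩

variable (F) in
/-- the image in `Y` of the inner-diagonal part of `X` -/
noncomputable def imD (hT : T.Normal) (X : Subgroup G) : Subgroup (YY D p) := (X.subgroupOf (F.ID hT)).map (theta F hT)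

theorem mem_imD (hT : T.Normal) {X : Subgroup G} {y : YY D p} : y ∈ imD F hT X ↔ ∃ c ∈ X, F.Ind y c :=
  ⟨fun ⟨c, h1, h2⟩ => ⟨c, h1, h2 ▸ theta_ind hT c⟩, fun ⟨c, h1, h2⟩ => ⟨⟨c, y, h2⟩, h1, theta_eq hT h2⟩⟩

theorem card_imD (hT : AS T) (X : Subgroup G) : Nat.card (imD F hT.normal X) = Nat.card ↥(X ⊓ F.ID hT.normal) := by
  unfold imD
  rw [Subgroup.card_map_of_injective (theta_inj hT), ← Subgroup.inf_subgroupOf_right]
  exact Nat.card_congr (Subgroup.subgroupOfEquivOfLe inf_le_right).toEquiv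

theorem inv_imD (hT : T.Normal) {X : Subgroup G} (hX : Nm S X) : F.L.Inv S (imD F hT X) := by
  intro φ hφ y hy
  obtain ⟨c, h1, h2⟩ := (mem_imD hT).1 hy
  exact (mem_imD hT).2 ⟨_, hX _ hφ c h1, ind_app hT h2 φ⟩

theorem imD_le_fix (hT : T.Normal) (X : Subgroup G) : imD F hT X ≤ DL.fix F.L.σ := fun _ hy => by
  obtain ⟨c, -, h2⟩ := (mem_imD hT).1 hy
  exact ind_fix h2

variable [Finite G]

theorem finite_imD (hT : T.Normal) (X : Subgroup G) : Finite (imD F hT X) :=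
  Finite.of_surjective (fun x : X.subgroupOf (F.ID hT) => (⟨theta F hT x, x, x.2, rfl⟩ : imD F hT X)) (by
    rintro ⟨_, x, hx, rfl⟩
    exact ⟨⟨x, hx⟩, rfl⟩)

theorem finite_fix (F : XF hp p q T) : Finite (DL.fix F.L.σ) := F.L.fin

theorem card_le_dM {B : Subgroup (YY D p)} (hB : B ≤ DL.fix F.L.σ) :
    Nat.card B ≤ dM l * Nat.card ↥(B ⊓ F.L.ι.range) := by
  have := finite_fix F
  have hK : F.L.ι.range ≤ DL.fix F.L.σ := by
    rintro _ ⟨x, rfl⟩
    exact F.L.fix x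
  have h1 : Nat.card F.L.ι.range = Nat.card T := (Nat.card_congr (MonoidHom.ofInjective F.L.inj).toEquiv).symm
  have h2 := card_eq_mul_relIndex hK
  have h3 : F.L.ι.range.relIndex (DL.fix F.L.σ) ≤ dM l := by
    refine Nat.le_of_mul_le_mul_left ?_ (Nat.card_pos (α := T))
    rw [← h1, h2, h1, mul_comm]
    exact F.idx
  have h4 : F.L.ι.range.relIndex B ≤ F.L.ι.range.relIndex (DL.fix F.L.σ) :=
    Subgroup.relIndex_le_of_le_right hB Subgroup.index_ne_zero_of_finite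
  rw [← card_eq_mul_relIndex (inf_le_left : B ⊓ F.L.ι.range ≤ B), Subgroup.inf_relIndex_left, mul_comm]
  exact Nat.mul_le_mul_right _ (h4.trans h3)

theorem card_ID_le (hT : AS T) (X : Subgroup G) :
    Nat.card ↥(X ⊓ F.ID hT.normal) ≤ dM l * Nat.card ↥(X ⊓ T) := by
  have h1 : imD F hT.normal X ⊓ F.L.ι.range = DS.Nt.im F.L (X ⊓ T) := by
    apply le_antisymm
    · rintro y ⟨h1, h2⟩
      obtain ⟨c, h3, h4⟩ := (mem_imD hT.normal).1 h1
      have h5 := mem_T_of_ind hT h4 h2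
      exact ⟨⟨c, h5⟩, ⟨h3, h5⟩, ind_unique hT.normal (ind_iota ⟨c, h5⟩) h4⟩
    · rintro _ ⟨x, hx, rfl⟩
      exact ⟨(mem_imD hT.normal).2 ⟨x, hx.1, ind_iota x⟩, x, rfl⟩
  rw [← card_imD hT, ← DS.Nt.card_im (L := F.L) (inf_le_right : X ⊓ T ≤ T), ← h1]
  exact card_le_dM (imD_le_fix _ X)

end Theta

section Grp

variable {p : ℕ} {G : Type} [Group G] [Finite G] {T S : Subgroup G}

theorem nm_of_le {X : Subgroup G} (h : S ≤ Subgroup.normalizer (X : Set G)) : Nm S X :=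
  fun _ hs x hx => (Subgroup.mem_normalizer_iff.1 (h hs) x).1 hx

theorem setup (C : Ctx p T S) : DS.Setup T S where
  normal := C.as.normal
  simple := C.as.simple
  noncomm := C.as.nonab
  cent := C.as.cent
  not_le := C.as.not_le C.solv
  coatom := by
    refine ⟨fun h => C.as.not_le C.solv (h ▸ le_top), fun Y hY => ?_⟩
    by_cases h1 : T ≤ Y
    · rw [eq_top_iff, ← C.sup]
      exact sup_le h1 hY.le
    · refine absurd (fun y hy => ?_) hY.not_ge
      have hN := C.as.normal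
      have h2 : y ∈ ((T ⊔ S : Subgroup G) : Set G) := by
        rw [C.sup]
        trivial
      rw [Subgroup.normal_mul] at h2
      obtain ⟨t, ht, s, hs, rfl⟩ := h2
      have h3 : t ∈ Y := (Y.mul_mem_cancel_right (hY.le hs)).1 hy
      exact mul_mem (C.max.inf_le C.as.normal hY.le h1 ⟨h3, ht⟩) hs

theorem le_S_of_pgroup (C : Ctx p T S) {r : ℕ} (hr : r.Prime) {Q : Subgroup G} (hQ : Q ≤ T) (h : IsPGroup r Q)
    (hS : Nm S Q) : Q ≤ S := by
  have := Fact.mk hr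
  refine C.max.le_of_inv C.as hQ (fun e => C.as.not_solvable ?_) hS
  rw [← e]
  have := h.isNilpotent
  infer_instance

theorem le_fit {N : Subgroup G} (hN : N ≤ S) (hS : Nm S N) (h : Group.IsNilpotent N) : N ≤ fit S := by
  have h1 : N.subgroupOf S ≤ fittingSubgroup S := Lib.Cores.le_fittingSubgroup
    ⟨fun x hx s => hS s s.2 x hx⟩ (Group.nilpotent_of_mulEquiv (Subgroup.subgroupOfEquivOfLe hN).symm)
  rw [← Subgroup.map_subgroupOf_eq_of_le hN]
  exact Subgroup.map_mono h1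

theorem nm_fit : Nm S (fit S) := by
  rintro s hs _ ⟨v, hv, rfl⟩
  exact ⟨_, (Lib.Cores.fittingSubgroup_normal (G := S)).conj_mem v hv ⟨s, hs⟩, rfl⟩

theorem nm_fit_inf (hT : T.Normal) : Nm S (fit S ⊓ T) :=
  fun s hs x hx => ⟨nm_fit s hs x hx.1, hT.conj_mem _ hx.2 s⟩

theorem card_inf_le (C : Ctx p T S) : Nat.card ↥(S ⊓ T) ≤ Nat.card ↥(fit S ⊓ T) ^ 4 := by
  have := solvable_inf C.solv T
  refine card_le_fitting_pow.trans (Nat.pow_le_pow_left ?_ 4)
  rw [← card_fit]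
  exact Subgroup.card_le_of_le (le_inf (le_fit ((fit_le _).trans inf_le_left) (fit_inf_conj C.as.normal)
    (fit_nilpotent _)) ((fit_le _).trans inf_le_right))

theorem fit_cent (C : Ctx p T S) {E : Subgroup G} {r : ℕ} (hL : DS.Loc T S E r) :
    ∀ c ∈ fit S, ∀ x ∈ E, c * x = x * c := by
  have hES : E ≤ S := hL.norm ▸ Subgroup.le_normalizer
  obtain ⟨X, h1, h2, h3, -, -, -, -, h4⟩ := exists_min C.solv hL.ne_bot hES (nm_of_le hL.norm.ge)
  obtain rfl := (hL.min X h1 (le_normalizer_of_conj h3)).resolve_left h2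
  rintro _ ⟨v, hv, rfl⟩
  exact h4 v hv

theorem card_le_aut {E : Subgroup G} {r : ℕ} (hL : DS.Loc T S E r) :
    Nat.card ↥(S ⊓ T) ≤ Nat.card ↥(Subgroup.centralizer (E : Set G) ⊓ T) * Nat.card (MulAut E) := by
  let f : ↥(S ⊓ T) →* MulAut E := E.normalizerMonoidHom.comp (Subgroup.inclusion (inf_le_left.trans hL.norm.ge))
  rw [← f.ker.card_mul_index, Subgroup.index_ker]
  refine Nat.mul_le_mul ?_ (Subgroup.card_le_card_group _)
  refine Nat.card_le_card_of_injective (fun x : f.ker => (⟨x, Subgroup.mem_centralizer_iff.2 fun e he => ?_, x.1.2.2⟩ :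
    ↥(Subgroup.centralizer (E : Set G) ⊓ T))) fun x y h =>
      Subtype.ext (Subtype.ext (congrArg (fun z : ↥(Subgroup.centralizer (E : Set G) ⊓ T) => (z : G)) h))
  have h1 := congrArg (fun β : MulAut E => ((β ⟨e, he⟩ : E) : G)) (MonoidHom.mem_ker.1 x.2)
  exact (mul_inv_eq_iff_eq_mul.1 h1).symm

theorem exists_gens {E : Type*} [Group E] [Finite E] {r : ℕ} (hr : r.Prime) (h : IsPGroup r E) (n : ℕ) :
    ∀ K : Subgroup E, Nat.card E ≤ r ^ n * Nat.card K → ∃ v : Fin n → E, K ⊔ Subgroup.closure (Set.range v) = ⊤ := by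
  have := Fact.mk hr
  induction n with
  | zero =>
    intro K hK
    rw [pow_zero, one_mul] at hK
    exact ⟨Fin.elim0, by rw [Subgroup.eq_top_of_le_card K hK, top_sup_eq]⟩
  | succ n ih =>
    intro K hK
    by_cases h1 : K = ⊤
    · exact ⟨fun _ => 1, by rw [h1, top_sup_eq]⟩
    obtain ⟨x, hx⟩ : ∃ x, x ∉ K := by
      by_contra h2
      push Not at h2
      exact h1 ((Subgroup.eq_top_iff' K).2 h2)
    have h2 : r * Nat.card K ≤ Nat.card ↥(K ⊔ Subgroup.zpowers x) := by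
      obtain ⟨a, ha⟩ := IsPGroup.iff_card.1 (h.to_subgroup K)
      obtain ⟨b, hb⟩ := IsPGroup.iff_card.1 (h.to_subgroup (K ⊔ Subgroup.zpowers x))
      have h3 : Nat.card K < Nat.card ↥(K ⊔ Subgroup.zpowers x) := by
        by_contra h4
        exact hx ((Subgroup.eq_of_le_of_card_ge le_sup_left (not_lt.1 h4)).ge
          (Subgroup.mem_sup_right (Subgroup.mem_zpowers x)))
      rw [ha, hb] at h3 ⊢
      rw [← pow_succ']
      exact Nat.pow_le_pow_right hr.pos ((Nat.pow_lt_pow_iff_right hr.one_lt).1 h3)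
    obtain ⟨v, hv⟩ := ih (K ⊔ Subgroup.zpowers x) (hK.trans (by
      rw [pow_succ, mul_assoc]
      exact Nat.mul_le_mul_left _ h2))
    refine ⟨Fin.cons x v, eq_top_iff.2 (hv.ge.trans (sup_le (sup_le le_sup_left ?_) ?_))⟩
    · exact Subgroup.zpowers_le.2 (Subgroup.mem_sup_right (Subgroup.subset_closure (Set.mem_range.2 ⟨0, rfl⟩)))
    · exact (Subgroup.closure_mono (by
        rintro _ ⟨i, rfl⟩
        exact ⟨i.succ, rfl⟩)).trans le_sup_right

theorem card_mulAut_le {E : Type*} [Group E] [Finite E] {r : ℕ} (hr : r.Prime) (h : IsPGroup r E) {n : ℕ}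
    (hn : Nat.card E ≤ r ^ n) : Nat.card (MulAut E) ≤ (r ^ n) ^ n := by
  obtain ⟨v, hv⟩ := exists_gens hr h n ⊥ (by rwa [Subgroup.card_bot, mul_one])
  rw [bot_sup_eq] at hv
  have h1 := Nat.card_le_card_of_injective (fun β : MulAut E => fun i => β (v i)) fun β γ e =>
    MulEquiv.toMonoidHom_injective (MonoidHom.eq_of_eqOn_dense hv (by
      rintro _ ⟨i, rfl⟩
      exact congrFun e i))
  rw [Nat.card_fun, Nat.card_eq_fintype_card (α := Fin n), Fintype.card_fin] at h1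
  exact h1.trans (Nat.pow_le_pow_left hn n)

theorem isPGroup_of_prime {X : Type*} [Group X] [Finite X] {r : ℕ}
    (h : ∀ x : X, (orderOf x).Prime → orderOf x = r) : IsPGroup r X :=
  IsPGroup.of_card (Nat.eq_prime_pow_of_unique_prime_dvd (p := r) Nat.card_pos.ne' fun {s} hs hd => by
    have := Fact.mk hs
    obtain ⟨x, hx⟩ := exists_prime_orderOf_dvd_card' s hd
    rw [← hx]
    exact h x (by rwa [hx]))

end Grp

/-! ### arithmetic -/

theorem prod_scale {q₀ q : ℕ} (h : q₀ ≤ q) (L : List ℕ) :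
    (L.map fun d => q₀ ^ d - 1).prod * q ^ L.sum ≤ (L.map fun d => q ^ d - 1).prod * q₀ ^ L.sum := by
  induction L with
  | nil => exact le_rfl
  | cons d L ih =>
    have h1 : (q₀ ^ d - 1) * q ^ d ≤ (q ^ d - 1) * q₀ ^ d := by
      rw [Nat.sub_mul, Nat.sub_mul, one_mul, one_mul, mul_comm]
      exact Nat.sub_le_sub_left (Nat.pow_le_pow_left h d) _
    rw [List.map_cons, List.map_cons, List.prod_cons, List.prod_cons, List.sum_cons, pow_add, pow_add,
      mul_mul_mul_comm, mul_mul_mul_comm (q ^ d - 1)]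
    exact Nat.mul_le_mul h1 ih

theorem scale {l K a c q₀ q : ℕ} (h0 : 0 < q₀) (h : q₀ ≤ q) (hd : a + c ≤ nP l + (degs l).sum)
    (hK : K * (q₀ ^ a * (q₀ + 1) ^ c) ≤ ordU l q₀) : K * (q ^ a * (q + 1) ^ c) ≤ ordU l q := by
  obtain ⟨m, hm⟩ := Nat.exists_eq_add_of_le hd
  have h1 : ordU l q₀ * q ^ (nP l + (degs l).sum) ≤ ordU l q * q₀ ^ (nP l + (degs l).sum) := by
    unfold ordU
    have h2 := Nat.mul_le_mul_left (q₀ ^ nP l * q ^ nP l) (prod_scale h (degs l))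
    rw [pow_add, pow_add]
    calc _ = _ := by ring
      _ ≤ _ := h2
      _ = _ := by ring
  have h2 : (q + 1) ^ c * q₀ ^ c ≤ (q₀ + 1) ^ c * q ^ c := by
    rw [← mul_pow, ← mul_pow]
    exact Nat.pow_le_pow_left (by linarith only [h]) c
  have h3 : q₀ ^ m ≤ q ^ m := Nat.pow_le_pow_left h m
  refine Nat.le_of_mul_le_mul_right (le_trans ?_ h1) (pow_pos h0 _)
  rw [hm]
  calc K * (q ^ a * (q + 1) ^ c) * q₀ ^ (a + c + m) = K * q ^ a * q₀ ^ a * ((q + 1) ^ c * q₀ ^ c) * q₀ ^ m := by ring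
    _ ≤ K * q ^ a * q₀ ^ a * ((q₀ + 1) ^ c * q ^ c) * q ^ m := Nat.mul_le_mul (Nat.mul_le_mul_left _ h2) h3
    _ = K * (q₀ ^ a * (q₀ + 1) ^ c) * q ^ (a + c + m) := by ring
    _ ≤ _ := Nat.mul_le_mul_right _ hK

/-- the numerical conditions of `crit` -/
structure Num (l f r j b a c q₀ q₁ mI mG mO : ℕ) : Prop where
  pos : 0 < q₀ ∧ 0 < q₁ ∧ 0 < mI ∧ 0 < mG ∧ 0 < mO
  deg : a + c ≤ nP l + (degs l).sum ∧ nP l + (l + 3) / 2 ≤ nP l + (degs l).sum
  hI : mI * dM l * b * (q₀ ^ a * (q₀ + 1) ^ c) ≤ ordU l q₀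
  hO : mO * dM l * r * q₀ ≤ ordU l q₀
  hO' : mO * dM l * 2 ^ l * q₁ ^ (nP l + (l + 3) / 2) ≤ ordU l q₁
  sum : r * (f * mG * mO + 2 ^ j * mI * mO + f * mI * mG) ≤ mI * mG * mO

/-- **`BoxCrit` from inequalities for the smallest `q`.** -/
theorem crit (hC : BoxCrit) {D : ChevalleyDatum} {l : ℕ} {M : CoxeterMatrix (Fin l)} {hp : IsType D l M} (hD : Typ D)
    {p : ℕ} [Fact p.Prime] {G : Type} [Group G] [Finite G] {T S : Subgroup G} (C : Ctx p T S) {q : ℕ}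
    (F : XF hp p q T) {f r j b a c q₀ q₁ mI mG mO : ℕ} (N : Num l f r j b a c q₀ q₁ mI mG mO) (h0 : q₀ ≤ q)
    (h1 : q ≠ p → q₁ ≤ q) (hf : Nat.card ↥(fit S ⊓ F.ID C.as.normal) ≤ f) (hr : Nat.card ↥(S ⊓ T) ≤ r)
    (hb : ∀ c' ∈ fit S, ∀ y, F.Ind y c' → (orderOf y).Prime → orderOf y ≠ p →
      Nat.card ↥(DL.fix F.L.σ ⊓ Subgroup.centralizer {y}) ≤ b * (q ^ a * (q + 1) ^ c))
    (hj : D = chevE6 → p ≠ 2 → (∀ X : Subgroup G, X ≤ S ⊓ T → IsPGroup 2 X → Nm S X → Nat.card X ≤ 2 ^ j) ∧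
      mG ^ (j + 1) * (3 * r) ≤ ordU l 3) : FitReg T S := by
  obtain ⟨a1, a2, a3, a4, a5⟩ := N.pos
  have hq : 0 < q := a1.trans_le h0
  refine hC D l M hp hD p G T S C q F f r _ j mI mG (mO * q) a3 a4 (Nat.mul_pos a5 hq) hf hr hb ?_
    (fun e h2 => ⟨(hj e h2).1, ?_⟩) ?_ (fun h2 => ?_) ?_
  · have h2 := scale a1 h0 N.deg.1 N.hI
    calc _ = _ := by ring
      _ ≤ _ := h2
  · have h3 : 3 ≤ q := by
      have h4 := (Fact.out : p.Prime).two_le
      rw [← F.m.hq]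
      exact le_trans (by omega) (Nat.le_self_pow F.m.he.ne' p)
    have h4 := scale (l := l) (K := mG ^ (j + 1) * (3 * r)) (a := 0) (c := 0) (by norm_num) h3 (Nat.zero_le _)
      (by simpa using (hj e h2).2)
    simpa using h4
  · have h2 := scale (l := l) (K := mO * dM l * r) (a := 1) (c := 0) a1 h0 (by
      have h3 := N.deg.2
      omega) (by simpa using N.hO)
    calc _ = _ := by ring
      _ ≤ _ := h2
  · have h3 := scale (l := l) (K := mO * dM l * 2 ^ l) (a := nP l + (l + 3) / 2) (c := 0) a2 (h1 h2) N.deg.2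
      (by simpa using N.hO')
    refine le_trans ?_ (Nat.pow_le_pow_left h3 2)
    have h4 : q ^ (2 * nP l + l + 2) ≤ q ^ (2 * (nP l + (l + 3) / 2)) := Nat.pow_le_pow_right hq (by omega)
    calc (mO * q * dM l) ^ 2 * (4 ^ l * q ^ (2 * nP l + l)) = (mO * dM l * 2 ^ l) ^ 2 * q ^ (2 * nP l + l + 2) := by
          rw [show 4 = 2 * 2 from rfl, mul_pow 2 2 l]
          ring
      _ ≤ (mO * dM l * 2 ^ l) ^ 2 * q ^ (2 * (nP l + (l + 3) / 2)) := Nat.mul_le_mul_left _ h4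
      _ = _ := by ring
  · have b1 : (0 : ℚ) < mI := by exact_mod_cast a3
    have b2 : (0 : ℚ) < mG := by exact_mod_cast a4
    have b3 : (0 : ℚ) < mO := by exact_mod_cast a5
    have b4 : (0 : ℚ) < q := by exact_mod_cast hq
    have b5 : (r : ℚ) * (f * mG * mO + 2 ^ j * mI * mO + f * mI * mG) ≤ mI * mG * mO := by exact_mod_cast N.sum
    have e : (r : ℚ) * (f / mI + 2 ^ j / mG + q * f / ((mO * q : ℕ) : ℚ)) =
        (r * (f * mG * mO + 2 ^ j * mI * mO + f * mI * mG)) / (mI * mG * mO) := by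
      push_cast
      field_simp
    rw [e, div_le_one (by positivity)]
    exact b5

theorem ntCtx {D : ChevalleyDatum} {l : ℕ} {M : CoxeterMatrix (Fin l)} {hp : IsType D l M} (hD : Typ D)
    {p : ℕ} [Fact p.Prime] {G : Type} [Group G] [Finite G] {T S : Subgroup G} (C : Ctx p T S) {q : ℕ}
    (F : XF hp p q T) (hA : ∀ A₀ : Subgroup (YY D p), _root_.Cfsg.Agent.DS.Ex.Toral p A₀ → F.L.Inv S A₀ → A₀ = ⊥) : DS.Nt.Ctx F.L S where
  typ := hD
  setup := setup C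
  fr := ⟨F.m.g, by rw [F.hσ]; exact F.m.fr⟩
  noP Q h1 h2 h3 := C.npar Q (le_inf (le_S_of_pgroup C Fact.out h1 h2 (nm_of_le h3)) h1) h2 (nm_of_le h3)
  noT := hA

end Cfsg.Agent.SB.Exc.NT
end

-- part: SB/Exc/Max/Inst
section
prune_inst 0x40000004001000200001800100000200000000090002000009080014000067302000209014080090000002a0000040028100000600000000000000000000000000028040070810108660018011002000000000000000000000000000000041000000000000
set_option linter.all false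
open scoped Cfsg.Agent.FastGrp

-- part: SB/Exc/Crit/Grp
section
/-!
# S5765, exceptional groups: group theory for the counting criterion (helper90)
-/

set_option autoImplicit false

namespace Cfsg.Agent.SB.Exc.Crit

open Subgroup Cfsg Cfsg.Agent.H786.FC

variable {A : Type*} [Group A] [Finite A] {T S : Subgroup A}

omit [Finite A] in
theorem fit_conj {s v : A} (hs : s ∈ S) (hv : v ∈ fit S) : s * v * s⁻¹ ∈ fit S := by
  obtain ⟨w, hw, rfl⟩ := hv
  have hN : (fittingSubgroup S).Normal := inferInstance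
  exact ⟨_, hN.conj_mem w hw ⟨s, hs⟩, rfl⟩

/-- a lower bound for a class from an upper bound for the centralizer -/
theorem le_cls_of {c : A} {M d b U : ℕ} (hd : 0 < d) (h1 : M * (d * b) ≤ U) (h2 : U ≤ d * Nat.card T)
    (h3 : Nat.card ↥(T ⊓ centralizer {c}) ≤ b) : M ≤ cls T c := by
  have h4 := cls_mul_card T c
  have h5 : 0 < b := lt_of_lt_of_le Nat.card_pos h3
  refine Nat.le_of_mul_le_mul_right (c := d * b) (h1.trans (h2.trans ?_)) (Nat.mul_pos hd h5)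
  rw [← h4]
  calc d * (Nat.card ↥(T ⊓ centralizer {c}) * cls T c) ≤ d * (b * cls T c) :=
        Nat.mul_le_mul_left _ (Nat.mul_le_mul_right _ h3)
    _ = _ := by ring

theorem card_cent_conj (hT : T.Normal) (c s : A) :
    Nat.card ↥(T ⊓ centralizer {c}) ≤ Nat.card ↥(T ⊓ centralizer {s * c * s⁻¹}) := by
  refine Nat.card_le_card_of_injective (fun x : ↥(T ⊓ centralizer {c}) =>
    (⟨s * x * s⁻¹, hT.conj_mem _ x.2.1 s, ?_⟩ : ↥(T ⊓ centralizer {s * c * s⁻¹}))) ?_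
  · have h1 := mem_centralizer_singleton_iff.1 x.2.2
    refine mem_centralizer_singleton_iff.2 ?_
    calc s * x * s⁻¹ * (s * c * s⁻¹) = s * (x * c) * s⁻¹ := by group
      _ = s * (c * x) * s⁻¹ := by rw [h1]
      _ = _ := by group
  · intro x y h
    have h1 : s * x * s⁻¹ = s * y * s⁻¹ := congrArg Subtype.val h
    exact Subtype.ext (mul_left_cancel (mul_right_cancel h1))

theorem cls_conj_le (hT : T.Normal) (c s : A) : cls T (s * c * s⁻¹) ≤ cls T c := by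
  have h1 := cls_mul_card T c
  have h2 := cls_mul_card T (s * c * s⁻¹)
  refine Nat.le_of_mul_le_mul_left ?_
    (Nat.card_pos (α := ↥(T ⊓ centralizer {s * c * s⁻¹})))
  rw [h2, ← h1]
  exact Nat.mul_le_mul_right _ (card_cent_conj hT c s)

theorem card_le_mul_cls {K : Subgroup A} (hK : K ≤ T) (d : A) :
    Nat.card K ≤ Nat.card ↥(K ⊓ centralizer {d}) * cls T d := by
  have h1 := cls_mul_card K d
  rw [← h1]
  refine Nat.mul_le_mul_left _ ?_
  unfold cls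
  rw [inf_comm K, inf_relIndex_right, inf_comm T, inf_relIndex_right]
  exact relIndex_le_of_le_right hK (Subgroup.FiniteIndex.index_ne_zero (H := (centralizer {d}).subgroupOf T))

/-- few conjugates generate the normal closure -/
theorem chain (hT : T.Normal) {c : A} {N : Subgroup A} (hN : ∀ s ∈ S, s * c * s⁻¹ ∈ N) (n : ℕ) :
    ∃ H ≤ N, Nat.card T ≤ Nat.card ↥(T ⊓ centralizer (H : Set A)) * cls T c ^ n ∧
      (2 ^ n ≤ Nat.card H ∨ ∀ s ∈ S, s * c * s⁻¹ ∈ H) := by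
  induction n with
  | zero =>
    refine ⟨⊥, bot_le, ?_, Or.inl (by simp)⟩
    have h1 : T ⊓ centralizer ((⊥ : Subgroup A) : Set A) = T := by
      refine inf_eq_left.2 fun x _ y hy => ?_
      rw [SetLike.mem_coe, mem_bot] at hy
      rw [hy, one_mul, mul_one]
    rw [h1, pow_zero, mul_one]
  | succ n ih =>
    obtain ⟨H, h1, h2, h3⟩ := ih
    by_cases h4 : ∀ s ∈ S, s * c * s⁻¹ ∈ H
    · refine ⟨H, h1, h2.trans (Nat.mul_le_mul_left _ ?_), Or.inr h4⟩
      exact Nat.pow_le_pow_right (cls_pos T c) (Nat.le_succ n)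
    · have h5 := h3.resolve_right h4
      push Not at h4
      obtain ⟨s, hs, h4⟩ := h4
      refine ⟨H ⊔ zpowers (s * c * s⁻¹), sup_le h1 (zpowers_le.2 (hN s hs)), h2.trans ?_, Or.inl ?_⟩
      · rw [pow_succ', ← mul_assoc]
        refine Nat.mul_le_mul_right _ ((card_le_mul_cls (T := T) inf_le_left (s * c * s⁻¹)).trans
          (Nat.mul_le_mul (card_le_of_le fun x hx => ⟨hx.1.1, ?_⟩) (cls_conj_le hT c s)))
        have h6 : H ⊔ zpowers (s * c * s⁻¹) ≤ centralizer {x} := by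
          refine sup_le (fun y hy => mem_centralizer_singleton_iff.2 (hx.1.2 y hy)) (zpowers_le.2 ?_)
          exact mem_centralizer_singleton_iff.2 (mem_centralizer_singleton_iff.1 hx.2).symm
        exact fun y hy => mem_centralizer_singleton_iff.1 (h6 hy)
      · obtain ⟨k, hk⟩ := card_dvd_of_le (le_sup_left : H ≤ H ⊔ zpowers (s * c * s⁻¹))
        have h7 : k ≠ 0 := by
          rintro rfl
          exact Nat.card_pos.ne' hk
        have h8 : k ≠ 1 := by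
          rintro rfl
          rw [mul_one] at hk
          have h9 := eq_of_le_of_card_ge (le_sup_left : H ≤ H ⊔ zpowers (s * c * s⁻¹)) hk.le
          exact h4 (h9 ▸ mem_sup_right (mem_zpowers _))
        rw [hk, pow_succ]
        exact Nat.mul_le_mul h5 (by omega)

/-- the bound for an element whose normal closure in `S` is small -/
theorem card_le_cls_pow (hT : AS T) (hS : Group.IsSolvable S) (hm : MaxInv T S) {c : A} (hc : c ∈ S) (h1 : c ≠ 1)
    {N : Subgroup A} (hN : ∀ s ∈ S, s * c * s⁻¹ ∈ N) {n : ℕ} (hn : Nat.card N ≤ 2 ^ n) :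
    Nat.card T ≤ Nat.card ↥(S ⊓ T) * cls T c ^ n := by
  obtain ⟨H, h2, h3, h4⟩ := chain hT.normal hN n
  have h5 : ∀ s ∈ S, s * c * s⁻¹ ∈ H := by
    rcases h4 with h4 | h4
    · rw [eq_of_le_of_card_ge h2 (hn.trans h4)]
      exact hN
    · exact h4
  refine h3.trans (Nat.mul_le_mul_right _ (card_le_of_le fun x hx => ⟨?_, hx.1⟩))
  let K : Subgroup A := closure {y | ∃ s ∈ S, s * c * s⁻¹ = y}
  have hKS : K ≤ S := (closure_le _).2 (by
    rintro _ ⟨s, hs, rfl⟩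
    exact mul_mem (mul_mem hs hc) (inv_mem hs))
  have hKH : K ≤ H := (closure_le _).2 (by
    rintro _ ⟨s, hs, rfl⟩
    exact h5 s hs)
  refine hm.mem_of_centralizes hT (X := K) (fun h => h1 ?_) (fun h => hT.not_le hS (h.trans hKS)) (fun s hs y hy => ?_)
    hx.1 fun y hy => (hx.2 y (hKH hy)).symm
  · have h6 : c ∈ K := subset_closure ⟨1, one_mem _, by group⟩
    rwa [h, mem_bot] at h6
  · have h6 : K ≤ K.comap (MulAut.conj s).toMonoidHom := (closure_le _).2 (by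
      rintro _ ⟨s', hs', rfl⟩
      exact subset_closure ⟨s * s', mul_mem hs hs', by simp only [mul_assoc, _root_.mul_assoc, _root_.mul_inv_rev, _root_.MulEquiv.toMonoidHom_eq_coe, _root_.MonoidHom.coe_coe, _root_.MulAut.conj_apply]⟩)
    exact h6 hy

/-- a central element of `S` -/
theorem cent_le_of_central (hT : AS T) (hS : Group.IsSolvable S) (hm : MaxInv T S) {c : A} (hc : c ∈ S) (h1 : c ≠ 1)
    (h : ∀ s ∈ S, s * c * s⁻¹ = c) : T ⊓ centralizer {c} ≤ S ⊓ T := by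
  refine fun x hx => ⟨?_, hx.1⟩
  refine hm.mem_of_centralizes hT (X := zpowers c) (fun h => h1 ?_)
    (fun h => hT.not_le hS (h.trans (zpowers_le.2 hc))) ?_ hx.1 ?_
  · exact zpowers_eq_bot.1 h
  · rintro s hs _ ⟨k, rfl⟩
    rw [← conj_zpow, h s hs]
    exact zpow_mem (mem_zpowers c) k
  · rintro _ ⟨k, rfl⟩
    exact (Commute.zpow_right (mem_centralizer_singleton_iff.1 hx.2) k).eq

omit [Finite A] in
theorem relIndex_le_two {H K : Subgroup A} (h : ∀ a ∈ K, ∀ b ∈ K, a ∈ H ∨ b ∈ H ∨ a * b ∈ H) : H.relIndex K ≤ 2 := by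
  have h1 : Nat.card Prop = 2 := by simp
  rw [← h1]
  refine Nat.card_le_card_of_injective (α := K ⧸ H.subgroupOf K)
    (Quotient.lift (fun a : K => (a : A) ∈ H) fun a b hab => ?_) ?_
  · have h2 : (a : A)⁻¹ * b ∈ H := mem_subgroupOf.1 (QuotientGroup.leftRel_apply.1 hab)
    refine propext ⟨fun ha => ?_, fun hb => ?_⟩
    · simpa using mul_mem ha h2
    · simpa only [_root_.mul_inv_rev, _root_.inv_inv, _root_.mul_inv_cancel_left] using mul_mem hb (inv_mem h2)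
  · intro a b
    refine Quotient.inductionOn₂ a b fun a b hab => ?_
    have h2 : (a : A) ∈ H ↔ (b : A) ∈ H := Eq.to_iff hab
    refine QuotientGroup.eq.2 (mem_subgroupOf.2 ?_)
    by_cases ha : (a : A) ∈ H
    · exact mul_mem (inv_mem ha) (h2.1 ha)
    · rcases h _ (inv_mem a.2) _ b.2 with h3 | h3 | h3
      · exact absurd (inv_mem_iff.1 h3) ha
      · exact absurd (h2.2 h3) ha
      · exact h3

omit [Finite A] in
theorem card_le_inf_mul (H K : Subgroup A) : Nat.card K = Nat.card ↥(K ⊓ H) * H.relIndex K := by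
  rw [← card_eq_mul_relIndex (inf_le_left : K ⊓ H ≤ K), inf_comm K, inf_relIndex_right]

/-- **The criterion with three kinds of elements.** -/
theorem fitReg_three (hT : T.Normal) (I J : A → Prop) {r MI MG MO nI nG nO : ℕ} (h1 : 0 < MI) (h2 : 0 < MG) (h3 : 0 < MO)
    (hr : Nat.card ↥(S ⊓ T) ≤ r)
    (hI : ∀ c ∈ fit S, (orderOf c).Prime → I c → MI ≤ cls T c)
    (hG : ∀ c ∈ fit S, (orderOf c).Prime → ¬ I c → J c → MG ≤ cls T c)
    (hO : ∀ c ∈ fit S, (orderOf c).Prime → ¬ I c → ¬ J c → MO ≤ cls T c)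
    (cI : Nat.card {c // c ∈ fit S ∧ (orderOf c).Prime ∧ I c} < nI)
    (cG : Nat.card {c // c ∈ fit S ∧ (orderOf c).Prime ∧ ¬ I c ∧ J c} ≤ nG) (cO : Nat.card (fit S) ≤ nO)
    (h : (r : ℚ) * (nI / MI + nG / MG + nO / MO) ≤ 1) : FitReg T S := by
  classical
  have hr0 : (0 : ℚ) < r := by exact_mod_cast lt_of_lt_of_le Nat.card_pos hr
  have key : ∀ (M : ℕ), 0 < M → ∀ c ∈ fit S, M ≤ cls T c → (meet T S c : ℚ) ≤ (r : ℚ) / M * cls T c := by
    intro M hM c hc h4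
    refine (R1.w_bound hT hM (fit_le S hc) h4).trans ?_
    have h5 : (Nat.card ↥(S ⊓ T) : ℚ) ≤ r := by exact_mod_cast hr
    gcongr
  refine fitReg_of_sum (fun c => if I c then r / MI else if J c then r / MG else r / MO) (fun c hc hp => ?_) ?_
  · split_ifs with a b
    · exact key _ h1 c hc (hI c hc hp a)
    · exact key _ h2 c hc (hG c hc hp a b)
    · exact key _ h3 c hc (hO c hc hp a b)
  · rw [Finset.sum_ite, Finset.sum_ite, Finset.sum_const, Finset.sum_const, Finset.sum_const, nsmul_eq_mul, nsmul_eq_mul,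
      nsmul_eq_mul]
    have e1 : (((primeElts (fit S)).filter I).card : ℚ) < nI := by
      refine Nat.cast_lt.2 (lt_of_le_of_lt (le_of_eq ?_) cI)
      refine (Nat.subtype_card _ fun c => ?_).symm
      rw [Finset.mem_filter, mem_primeElts, and_assoc]
    have e2 : ((((primeElts (fit S)).filter fun c => ¬ I c).filter J).card : ℚ) ≤ nG := by
      refine Nat.cast_le.2 (le_trans (le_of_eq ?_) cG)
      refine (Nat.subtype_card _ fun c => ?_).symm
      rw [Finset.mem_filter, Finset.mem_filter, mem_primeElts, and_assoc, and_assoc]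
    have e3 : ((((primeElts (fit S)).filter fun c => ¬ I c).filter fun c => ¬ J c).card : ℚ) ≤ nO := by
      refine Nat.cast_le.2 (le_trans ?_ cO)
      exact ((Finset.card_filter_le _ _).trans (Finset.card_filter_le _ _)).trans (card_primeElts_lt _).le
    have p1 : (0 : ℚ) < r / MI := div_pos hr0 (by exact_mod_cast h1)
    have p2 : (0 : ℚ) < r / MG := div_pos hr0 (by exact_mod_cast h2)
    have p3 : (0 : ℚ) < r / MO := div_pos hr0 (by exact_mod_cast h3)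
    have e4 : (r : ℚ) * (nI / MI + nG / MG + nO / MO) = nI * (r / MI) + (nG * (r / MG) + nO * (r / MO)) := by ring
    rw [e4] at h
    refine lt_of_lt_of_le ?_ h
    exact add_lt_add_of_lt_of_le (mul_lt_mul_of_pos_right e1 p1)
      (add_le_add (mul_le_mul_of_nonneg_right e2 p2.le) (mul_le_mul_of_nonneg_right e3 p3.le))

end Cfsg.Agent.SB.Exc.Crit
end

-- part: SB/Exc/Crit/Main
section
/-!
# S5765, exceptional groups: the counting criterion `BoxCrit` (helper90)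
-/

set_option autoImplicit false
set_option linter.unusedSectionVars false

namespace Cfsg.Agent.SB.Exc.Crit

open CoxeterSystem Cfsg Cfsg.Lie Cfsg.Lie.ChevalleyDatum
open Cfsg.Agent.ChevalleyStructure Cfsg.Agent.Nodes.RGDChev Cfsg.Agent.KFacts.RgdChevCoord
open Cfsg.Agent.H469.Exc Cfsg.Agent.H316.U6 Cfsg.Agent.DS.Ex Cfsg.Agent.H786.FC
open Cfsg.Agent.SB.Exc.NT
open Subgroup (centralizer mem_centralizer_singleton_iff zpowers)

variable {D : ChevalleyDatum} {l : ℕ} {M : CoxeterMatrix (Fin l)} {hp : IsType D l M} {p : ℕ} [Fact p.Prime]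
  {q : ℕ} {G : Type} [Group G] {T S : Subgroup G} {F : XF hp p q T}

/-! ### lifts and degrees -/

theorem ind_of_conj {φ : F.L.Γ} {y : YY D p} (h : (φ : MulAut (YY D p)) = MulAut.conj y) : F.Ind y (F.L.π φ) :=
  fun x x' e => by
    have h1 := F.L.act φ x x' e
    rwa [h] at h1

variable (F) in
/-- the Frobenius map as a lift -/
def sg : F.L.Γ := ⟨F.L.σ, F.L.mem_σ⟩

theorem pi_sg (hT : AS T) : F.L.π (sg F) = 1 := by
  have h1 : F.L.π (sg F) ∈ centralizer (T : Set G) := Subgroup.mem_centralizer_iff.2 fun x hx => by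
    have h2 := F.L.act (sg F) ⟨x, hx⟩ ⟨_, hT.normal.conj_mem _ hx (F.L.π (sg F))⟩ rfl
    have h3 : x = F.L.π (sg F) * x * (F.L.π (sg F))⁻¹ := congrArg Subtype.val (F.L.inj ((F.L.fix _).symm.trans h2))
    exact (mul_inv_eq_iff_eq_mul.1 h3.symm).symm
  rwa [hT.cent, Subgroup.mem_bot] at h1

variable (F) in
/-- the degree as a homomorphism -/
noncomputable def dH : F.L.Γ →* Multiplicative ℤ :=
  MonoidHom.mk' (fun φ => Multiplicative.ofAdd (F.deg φ)) fun φ ψ => congrArg Multiplicative.ofAdd (F.deg_mul φ ψ)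

theorem deg_zpow (φ : F.L.Γ) (k : ℤ) : F.deg (φ ^ k) = k * F.deg φ := by
  have h := congrArg Multiplicative.toAdd (map_zpow (dH F) φ k)
  rw [toAdd_zpow, smul_eq_mul] at h
  exact h

theorem deg_sg : F.deg (sg F) = F.κ * F.m.e := F.deg_σ

theorem ker_sg {φ : F.L.Γ} (h : F.L.π φ = 1) : ∃ k : ℤ, φ = sg F ^ k := by
  obtain ⟨k, hk⟩ := F.ker φ h
  exact ⟨k, Subtype.ext hk.symm⟩

variable (F) in
/-- the elements with a lift of degree zero -/
noncomputable def G0 : Subgroup G := (dH F).ker.map F.L.π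

theorem mem_G0 {c : G} : c ∈ G0 F ↔ ∃ φ : F.L.Γ, F.deg φ = 0 ∧ F.L.π φ = c := Iff.rfl

theorem G0_normal : (G0 F).Normal := Subgroup.Normal.map inferInstance _ F.L.surj

theorem kappa_pos : 0 < F.κ := by
  rcases F.hκ with h | h
  · omega
  · omega

theorem index_G0 (hT : AS T) : (G0 F).index ≤ F.κ * F.m.e ∧ (G0 F).index ≠ 0 := by
  have h0 : F.κ * F.m.e ≠ 0 := (Nat.mul_pos kappa_pos F.m.he).ne'
  let Z : Subgroup (Multiplicative ℤ) := zpowers (Multiplicative.ofAdd ((F.κ * F.m.e : ℕ) : ℤ))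
  have hZ : Z.index = F.κ * F.m.e := by
    have h1 := Int.index_zmultiples ((F.κ * F.m.e : ℕ) : ℤ)
    rw [Int.natAbs_natCast] at h1
    exact h1
  have h1 : (Z.comap (dH F)).map F.L.π ≤ G0 F := by
    rintro _ ⟨φ, ⟨k, hk⟩, rfl⟩
    have h2 : k * (F.κ * F.m.e : ℤ) = F.deg φ := by
      have h3 := congrArg Multiplicative.toAdd hk
      rw [toAdd_zpow, smul_eq_mul, toAdd_ofAdd, Nat.cast_mul] at h3
      exact h3
    refine mem_G0.2 ⟨φ * sg F ^ (-k), ?_, ?_⟩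
    · rw [F.deg_mul, deg_zpow, deg_sg, ← h2]
      ring
    · rw [map_mul, map_zpow, pi_sg hT, one_zpow, mul_one]
  have h2 : (G0 F).index ∣ (Z.comap (dH F)).index :=
    (Subgroup.index_dvd_of_le h1).trans (Subgroup.index_map_dvd _ F.L.surj)
  have h3 : (Z.comap (dH F)).index ∣ F.κ * F.m.e := by
    rw [Subgroup.index_comap, ← hZ]
    exact Subgroup.relIndex_dvd_index_of_normal _ _
  have h4 := h2.trans h3
  exact ⟨Nat.le_of_dvd (Nat.pos_of_ne_zero h0) h4, ne_zero_of_dvd_ne_zero h0 h4⟩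

theorem G0_two (hT : T.Normal) : ∀ a ∈ G0 F, ∀ b ∈ G0 F, a ∈ F.ID hT ∨ b ∈ F.ID hT ∨ a * b ∈ F.ID hT := by
  rintro _ ⟨φ, h1, rfl⟩ _ ⟨ψ, h2, rfl⟩
  rcases F.alg₂ φ ψ h1 h2 with ⟨y, h⟩ | ⟨y, h⟩ | ⟨y, h⟩
  · exact Or.inl ⟨y, ind_of_conj h⟩
  · exact Or.inr (Or.inl ⟨y, ind_of_conj h⟩)
  · refine Or.inr (Or.inr ⟨y, ?_⟩)
    rw [← map_mul]
    exact ind_of_conj h

theorem G0_E6 (hT : T.Normal) {c : G} (h : c ∈ G0 F) (h' : c ∉ F.ID hT) : D = chevE6 := by
  obtain ⟨φ, h1, rfl⟩ := h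
  rcases F.alg φ h1 with ⟨y, h⟩ | h
  · exact absurd ⟨y, ind_of_conj h⟩ h'
  · exact h.1

theorem comm_mem_ID (hT : T.Normal) (a b : G) : a * b * a⁻¹ * b⁻¹ ∈ F.ID hT := by
  obtain ⟨φ, rfl⟩ := F.L.surj a
  obtain ⟨ψ, rfl⟩ := F.L.surj b
  obtain ⟨y, h⟩ := F.L.der φ φ.2 ψ ψ.2
  refine ⟨y, ?_⟩
  rw [← map_inv, ← map_inv, ← map_mul, ← map_mul, ← map_mul]
  exact ind_of_conj h

theorem two_mul_le : 2 * F.m.e ≤ q := by
  refine le_trans ?_ ((Nat.pow_le_pow_left (Fact.out : p.Prime).two_le _).trans F.m.hq.le)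
  obtain ⟨n, hn⟩ := Nat.exists_eq_add_of_lt F.m.he
  rw [hn, zero_add, pow_succ']
  exact Nat.mul_le_mul_left _ Nat.lt_two_pow_self

variable [Finite G]

/-- the index of the inner-diagonal group -/
theorem index_ID (hD : Typ D) (hT : AS T) : (F.ID hT.normal).index ≤ q := by
  refine le_trans ?_ (two_mul_le (F := F))
  have h1 := Subgroup.relIndex_mul_index (inf_le_right : F.ID hT.normal ⊓ G0 F ≤ G0 F)
  rw [Subgroup.inf_relIndex_right] at h1
  refine (Subgroup.index_antitone (inf_le_left : F.ID hT.normal ⊓ G0 F ≤ _)).trans ?_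
  rw [← h1]
  have h2 := (index_G0 (F := F) hT).1
  rcases F.hκ with h | ⟨h, -, h'⟩
  · rw [h, one_mul] at h2
    exact Nat.mul_le_mul (relIndex_le_two (G0_two hT.normal)) h2
  · have h3 : G0 F ≤ F.ID hT.normal := fun c hc => by
      by_contra h4
      exact ((typ_num hp hD).2.2 (G0_E6 hT.normal hc h4)).2.2 h
    rw [Subgroup.relIndex_eq_one.2 h3, one_mul, ← h']
    exact h2

theorem card_le_q (hD : Typ D) (hT : AS T) (X : Subgroup G) : Nat.card X ≤ q * Nat.card ↥(X ⊓ F.ID hT.normal) := by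
  rw [card_le_inf_mul (F.ID hT.normal) X, mul_comm]
  refine Nat.mul_le_mul_right _ (le_trans ?_ (index_ID (F := F) hD hT))
  rw [← Subgroup.relIndex_top_right]
  exact Subgroup.relIndex_le_of_le_right le_top Subgroup.index_ne_zero_of_finite

/-! ### the four kinds of elements -/

theorem orderOf_ind (hT : AS T) {y : YY D p} {c : G} (h : F.Ind y c) : orderOf y = orderOf c := by
  rw [← theta_eq hT.normal h, orderOf_injective _ (theta_inj hT), ← Subgroup.orderOf_coe]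

/-- inner-diagonal elements of order prime to `dd` and `p`-elements lie in `T` -/
theorem mem_T_of_p (hT : AS T) {c : G} (hc : c ∈ F.ID hT.normal) {k : ℕ} (h : c ^ p ^ k = 1) : c ∈ T := by
  obtain ⟨y, hy⟩ := hc
  refine mem_T_of_ind hT hy (F.L.pel y (ind_fix hy) ⟨k, ?_⟩)
  rw [← orderOf_dvd_iff_pow_eq_one, orderOf_ind hT hy]
  exact orderOf_dvd_of_pow_eq_one h

theorem eq_one_of_p (C : Ctx p T S) {c : G} (hc : c ∈ fit S) (hI : c ∈ F.ID C.as.normal) {k : ℕ}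
    (h : c ^ p ^ k = 1) : c = 1 := by
  obtain ⟨Q, h1, h2, h3, h4⟩ := exists_core (fit_nilpotent S) p Fact.out
  have h5 := C.npar (Q ⊓ T) (inf_le_inf_right _ (h1.trans (fit_le S))) (h2.to_le inf_le_left)
    fun s hs x hx => ⟨h4 s (fun v hv => fit_conj hs hv) x hx.1, C.as.normal.conj_mem _ hx.2 s⟩
  have h6 : c ∈ Q ⊓ T := ⟨(h3 c hc).1 ⟨k, h⟩, mem_T_of_p C.as hI h⟩
  rwa [h5, Subgroup.mem_bot] at h6

theorem cent_le_ind {y : YY D p} {c : G} (h : F.Ind y c) :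
    Nat.card ↥(T ⊓ centralizer {c}) ≤ Nat.card ↥(DL.fix F.L.σ ⊓ centralizer {y}) := by
  have := finite_fix F
  have : Finite ↥(DL.fix F.L.σ ⊓ centralizer {y}) :=
    Finite.of_injective _ (Subgroup.inclusion_injective inf_le_left)
  refine Nat.card_le_card_of_injective (fun x : ↥(T ⊓ centralizer {c}) =>
    (⟨F.L.ι ⟨x, x.2.1⟩, F.L.fix _, ?_⟩ : ↥(DL.fix F.L.σ ⊓ centralizer {y}))) fun x x' e => ?_
  · exact mem_centralizer_singleton_iff.2 (ind_comm h (mem_centralizer_singleton_iff.1 x.2.2).symm).symm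
  · exact Subtype.ext (congrArg (fun z : T => (z : G)) (F.L.inj (congrArg Subtype.val e)))

/-- outer elements of order `p` are central in `S` -/
theorem central_of_p (C : Ctx p T S) (F : XF hp p q T) {c : G} (hc : c ∈ fit S) (h : c ^ p = 1) :
    ∀ s ∈ S, s * c * s⁻¹ = c := by
  intro s hs
  obtain ⟨Q, h1, h2, h3, h4⟩ := exists_core (fit_nilpotent S) p Fact.out
  have h5 : c ∈ Q := (h3 c hc).1 ⟨1, by rwa [pow_one]⟩
  have h6 : s * c * s⁻¹ * c⁻¹ ∈ Q := mul_mem (h4 s (fun v hv => fit_conj hs hv) c h5) (inv_mem h5)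
  obtain ⟨k, hk⟩ := (h3 _ (h1 h6)).2 h6
  exact mul_inv_eq_one.1 (eq_one_of_p (F := F) C (h1 h6) (comm_mem_ID _ s c) hk)

/-- the order of a graph automorphism -/
theorem order_two (hT : T.Normal) {c : G} (hc : (orderOf c).Prime) (h : c ∈ G0 F) (h' : c ∉ F.ID hT) :
    orderOf c = 2 := by
  have h1 : c * c ∈ F.ID hT := ((G0_two hT c h c h).resolve_left h').resolve_left h'
  by_contra h2
  obtain ⟨k, hk⟩ := hc.odd_of_ne_two h2
  have h3 : c = ((c * c) ^ k)⁻¹ := by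
    rw [eq_inv_iff_mul_eq_one, ← pow_two, ← pow_mul, ← pow_succ', ← hk, pow_orderOf_eq_one]
  exact h' (h3 ▸ inv_mem (pow_mem h1 k))

theorem two_le_T (hD : Typ D) (hE : D = chevE6) (hT : AS T) {c : G} (hc : c ∈ F.ID hT.normal) {k : ℕ}
    (h : c ^ 2 ^ k = 1) : c ∈ T := by
  obtain ⟨y, hy⟩ := hc
  refine mem_T_of_ind hT hy ?_
  have h1 := F.L.pow_dd y (ind_fix hy)
  have h2 : y ^ 2 ^ k = 1 := by
    rw [← orderOf_dvd_iff_pow_eq_one, orderOf_ind hT hy]
    exact orderOf_dvd_of_pow_eq_one h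
  have h3 : Nat.Coprime F.L.dd (orderOf y) := by
    refine Nat.Coprime.coprime_dvd_right (orderOf_dvd_of_pow_eq_one h2) (Nat.Coprime.pow_right _ ?_)
    rcases F.L.hdd with h4 | h4 | h4
    · rw [h4]; decide
    · rw [h4.2]; decide
    · exact absurd h4.1 ((typ_num hp hD).2.2 hE).2.1
  obtain ⟨m, hm⟩ := exists_pow_eq_self_of_coprime h3
  rw [← hm]
  exact pow_mem h1 m

/-- field and graph-field automorphisms -/
theorem cent_field (hC : BoxCard) (hD : Typ D) (hT : AS T) {c : G} (hc : (orderOf c).Prime) (hs : orderOf c ≠ p)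
    (h : c ∉ G0 F) : q ≠ p ∧ Nat.card ↥(T ⊓ centralizer {c}) ^ 2 ≤ 4 ^ l * q ^ (2 * nP l + l) := by
  obtain ⟨φ, rfl⟩ := F.L.surj c
  set s := orderOf (F.L.π φ) with hs'
  obtain ⟨k, hk⟩ := ker_sg (φ := φ ^ (s : ℤ)) (by rw [map_zpow, zpow_natCast, pow_orderOf_eq_one])
  have hs0 : (0 : ℤ) < s := by exact_mod_cast hc.pos
  have hk' : ¬ (s : ℤ) ∣ k := by
    rintro ⟨m, rfl⟩
    refine h (mem_G0.2 ⟨φ * sg F ^ (-m), ?_, by rw [map_mul, map_zpow, pi_sg hT, one_zpow, mul_one]⟩)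
    have h1 := congrArg F.deg hk
    rw [deg_zpow, deg_zpow, mul_assoc] at h1
    rw [F.deg_mul, deg_zpow, mul_left_cancel₀ hs0.ne' h1]
    ring
  obtain ⟨b, a, hab⟩ : IsCoprime (s : ℤ) k := (Nat.prime_iff_prime_int.1 hc).irreducible.coprime_iff_not_dvd.2 hk'
  let ψ : F.L.Γ := φ ^ a * sg F ^ b
  have h1 : (s : ℤ) * F.deg ψ = F.κ * F.m.e := by
    have h2 := congrArg F.deg hk
    rw [deg_zpow, deg_zpow, deg_sg] at h2
    show (s : ℤ) * F.deg (φ ^ a * sg F ^ b) = _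
    rw [F.deg_mul, deg_zpow, deg_zpow, deg_sg]
    linear_combination a * h2 + (F.κ * F.m.e : ℤ) * hab
  obtain ⟨n, hn⟩ : s ∣ F.m.e := by
    have h2 : s ∣ F.κ * F.m.e := by
      have h3 : (s : ℤ) ∣ ((F.κ * F.m.e : ℕ) : ℤ) := ⟨_, by rw [h1, Nat.cast_mul]⟩
      exact_mod_cast h3
    rcases F.hκ with h3 | ⟨-, h3, h4⟩
    · rwa [h3, one_mul] at h2
    · rw [h4] at h2
      refine ((Nat.Prime.dvd_mul hc).1 h2).resolve_left fun h5 => hs ?_
      rw [h3]
      exact (Nat.prime_dvd_prime_iff_eq hc Nat.prime_two).1 h5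
  have hn0 : 0 < n := Nat.pos_of_ne_zero (by
    rintro rfl
    exact F.m.he.ne' hn)
  have h2 : F.deg ψ = F.κ * n := by
    refine mul_left_cancel₀ hs0.ne' ?_
    rw [h1, hn]
    push_cast
    ring
  obtain ⟨h3, y, g, h4⟩ := F.frob ψ n h2
  obtain ⟨h5, h6⟩ := card_fix hp hC hn0 h3 h4
  have h7 : Nat.card ↥(T ⊓ centralizer {F.L.π φ}) ≤ Nat.card (DL.fix (ψ : MulAut (YY D p))) := by
    refine Nat.card_le_card_of_injective (fun x : ↥(T ⊓ centralizer {F.L.π φ}) =>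
      (⟨F.L.ι ⟨x, x.2.1⟩, F.L.act ψ _ _ ?_⟩ : DL.fix (ψ : MulAut (YY D p)))) fun x x' e => ?_
    · have h8 : Commute (F.L.π φ) x := (mem_centralizer_singleton_iff.1 x.2.2).symm
      show (x : G) = F.L.π (φ ^ a * sg F ^ b) * x * (F.L.π (φ ^ a * sg F ^ b))⁻¹
      rw [map_mul, map_zpow, map_zpow, pi_sg hT, one_zpow, mul_one, (h8.zpow_left a).eq, mul_inv_cancel_right]
    · exact Subtype.ext (congrArg (fun z : T => (z : G)) (F.L.inj (congrArg Subtype.val e)))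
  have hp1 := (Fact.out : p.Prime).one_lt
  have h8 : n * 2 ≤ F.m.e := by
    rw [hn, mul_comm s]
    exact Nat.mul_le_mul_left _ hc.two_le
  have h9 : (p ^ n) ^ 2 ≤ q := by
    rw [← F.m.hq, ← pow_mul]
    exact Nat.pow_le_pow_right hp1.le h8
  refine ⟨fun e => ?_, (Nat.pow_le_pow_left (h7.trans h6) 2).trans ?_⟩
  · have h10 : p ^ F.m.e = p ^ 1 := by rw [F.m.hq, e, pow_one]
    have h11 := Nat.pow_right_injective hp1 h10
    omega
  · have h10 : (p ^ n + 1) ^ 2 ≤ 4 * q := by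
      have h11 : 1 ≤ p ^ n := Nat.one_le_pow _ _ hp1.le
      nlinarith only [h9, h11]
    rw [(typ_num hp hD).1]
    calc _ = ((p ^ n) ^ 2) ^ (2 * nP l) * ((p ^ n + 1) ^ 2) ^ l := by
          rw [mul_pow, ← pow_mul (p ^ n), ← pow_mul (p ^ n), ← pow_mul (p ^ n + 1), ← pow_mul (p ^ n + 1),
            mul_comm _ 2, mul_comm l 2]
      _ ≤ q ^ (2 * nP l) * (4 * q) ^ l := Nat.mul_le_mul (Nat.pow_le_pow_left h9 _) (Nat.pow_le_pow_left h10 _)
      _ = _ := by rw [mul_pow, pow_add, mul_left_comm]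

/-- **The counting criterion.** -/
theorem boxCrit_of (hC : BoxCard) : BoxCrit := by
  intro D l M hp hD p _ G _ _ T S C q F f r b j MI MG MO a1 a2 a3 hf hr hb hI hG hO hO' hsum
  have hN := C.as.normal
  obtain ⟨-, d0, dE⟩ := typ_num hp hD
  obtain ⟨P, p1, p2, p3, p4⟩ := exists_core (fit_nilpotent S) 2 Nat.prime_two
  have key : ∀ c, (orderOf c).Prime → c ∉ F.ID hN → orderOf c ≠ p ∧ c ∈ G0 F →
      orderOf c = 2 ∧ D = chevE6 ∧ MG ^ (j + 1) * (3 * r) ≤ ordU l q ∧ Nat.card ↥(P ⊓ F.ID hN) ≤ 2 ^ j := by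
    intro c h1 h2 h3
    have h4 := order_two hN h1 h3.2 h2
    have h5 := G0_E6 hN h3.2 h2
    obtain ⟨h6, h7⟩ := hG h5 fun e => h3.1 (h4.trans e.symm)
    refine ⟨h4, h5, h7, h6 _ (fun x hx => ⟨fit_le S (p1 hx.1), ?_⟩) (p2.to_le inf_le_left)
      fun s hs x hx => ⟨p4 s (fun v hv => fit_conj hs hv) x hx.1, conj_mem_ID hN hx.2 s⟩⟩
    obtain ⟨k, hk⟩ := (p3 x (p1 hx.1)).2 hx.1
    exact two_le_T hD h5 C.as hx.2 hk
  have memP : ∀ c ∈ fit S, orderOf c = 2 → c ∈ P := fun c hc h =>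
    (p3 c hc).1 ⟨1, by rw [pow_one, ← h, pow_orderOf_eq_one]⟩
  refine fitReg_three hN (fun c => c ∈ F.ID hN) (fun c => orderOf c ≠ p ∧ c ∈ G0 F) (nI := f) (nG := 2 ^ j)
    (nO := q * f) a1 a2 a3 hr ?_ ?_ ?_ ?_ ?_ ?_ (by push_cast; exact hsum)
  · rintro c hc h1 ⟨y, hy⟩
    have h2 := orderOf_ind C.as hy
    refine le_cls_of d0 hI F.ord ((cent_le_ind hy).trans (hb c hc y hy (h2 ▸ h1) fun e => ?_))
    have h3 := eq_one_of_p (F := F) C hc ⟨y, hy⟩ (k := 1) (by rw [pow_one, ← e, h2, pow_orderOf_eq_one])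
    rw [h3, orderOf_one] at h1
    exact Nat.not_prime_one h1
  · intro c hc h1 h2 h3
    obtain ⟨h4, h5, h6, h7⟩ := key c h1 h2 h3
    have h8 : Nat.card ↥(P ⊓ G0 F) ≤ 2 ^ (j + 1) := by
      rw [card_le_inf_mul (F.ID hN) (P ⊓ G0 F), pow_succ]
      refine Nat.mul_le_mul ((Subgroup.card_le_of_le (inf_le_inf_right _ inf_le_left)).trans h7) ?_
      exact relIndex_le_two fun a ha b hb => G0_two hN a ha.2 b hb.2
    have h9 := card_le_cls_pow C.as C.solv C.max (fit_le S hc) (fun e => by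
      rw [e, orderOf_one] at h1
      exact Nat.not_prime_one h1) (N := P ⊓ G0 F) (fun s hs => ⟨p4 s (fun v hv => fit_conj hs hv) c (memP c hc h4),
        G0_normal.conj_mem c h3.2 s⟩) h8
    have h10 := F.ord
    rw [(dE h5).1] at h10
    have hr0 : 0 < r := lt_of_lt_of_le Nat.card_pos hr
    refine (Nat.pow_le_pow_iff_left (n := j + 1) (by omega)).1
      (Nat.le_of_mul_le_mul_right (h6.trans (h10.trans ?_)) (by omega : 0 < 3 * r))
    calc 3 * Nat.card T ≤ 3 * (r * cls T c ^ (j + 1)) :=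
          Nat.mul_le_mul_left _ (h9.trans (Nat.mul_le_mul_right _ hr))
      _ = _ := by ring
  · intro c hc h1 h2 h3
    by_cases h4 : orderOf c = p
    · refine le_cls_of d0 hO F.ord ((Subgroup.card_le_of_le (cent_le_of_central C.as C.solv C.max (fit_le S hc)
        (fun e => h2 (e ▸ one_mem _)) (central_of_p C F hc (by rw [← h4, pow_orderOf_eq_one])))).trans hr)
    · obtain ⟨h5, h6⟩ := cent_field (F := F) hC hD C.as h1 h4 fun h => h3 ⟨h4, h⟩
      refine le_cls_of d0 ?_ F.ord le_rfl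
      refine (Nat.pow_le_pow_iff_left two_ne_zero).1 (le_trans ?_ (hO' h5))
      rw [← mul_assoc, mul_pow]
      exact Nat.mul_le_mul_left _ h6
  · refine lt_of_lt_of_le ?_ hf
    refine lt_of_le_of_lt (le_of_eq (Nat.subtype_card (primeElts (fit S ⊓ F.ID hN)) fun c => ?_))
      (card_primeElts_lt _)
    rw [mem_primeElts, Subgroup.mem_inf]
    (clear * -; tauto)
  · rcases isEmpty_or_nonempty {c // c ∈ fit S ∧ (orderOf c).Prime ∧ c ∉ F.ID hN ∧ orderOf c ≠ p ∧ c ∈ G0 F} with h | ⟨⟨c₀, h₀⟩⟩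
    · rw [Nat.card_of_isEmpty]
      exact Nat.zero_le _
    · obtain ⟨h4, -, -, h7⟩ := key c₀ h₀.2.1 h₀.2.2.1 h₀.2.2.2
      refine le_trans (Nat.card_le_card_of_injective (fun c => (⟨c.1 * c₀, mul_mem (memP _ c.2.1
        (key _ c.2.2.1 c.2.2.2.1 c.2.2.2.2).1) (memP _ h₀.1 h4), ?_⟩ : ↥(P ⊓ F.ID hN))) fun c c' e => ?_) h7
      · exact ((G0_two hN _ c.2.2.2.2.2 _ h₀.2.2.2.2).resolve_left c.2.2.2.1).resolve_left h₀.2.2.1
      · exact Subtype.ext (mul_right_cancel (congrArg Subtype.val e))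
  · exact (card_le_q hD C.as _).trans (Nat.mul_le_mul_left _ hf)

end Cfsg.Agent.SB.Exc.Crit
end

-- part: SB/Exc/Max/Inst
section
/-!
# S5765, `BoxMax` from the abstract form (helper64)

`he_grp` : coprime action on the Fitting subgroup; `gc`, `hyp`, `bad` : the hypotheses of `BoxMain`; `boxMax_of`.
-/

set_option autoImplicit false
set_option linter.unusedSectionVars false

namespace Cfsg.Agent.SB.Exc.Max

open CoxeterSystem Cfsg Cfsg.Lie Cfsg.Lie.ChevalleyDatum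
open Cfsg.Agent.ChevalleyStructure Cfsg.Agent.ChevalleyStructure.CoxeterGeom Cfsg.Agent.Tits.Roots
  Cfsg.Agent.Nodes.RGDChev Cfsg.Agent.KFacts.RgdChevCoord Cfsg.Agent.BpExc.TorChev Cfsg.Agent.BpExc.Fr
  Cfsg.Agent.BpExc.LangFr
open Cfsg.Agent.H469.Exc Cfsg.Agent.H316.U6 Cfsg.Agent.H129.TorusChar Cfsg.Agent.DS.Ex Cfsg.Agent.H786.FC
open Cfsg.Agent.SB.Exc.NT Cfsg.Agent.SB.Exc.Crit

section Grp

variable {G : Type} [Group G] [Finite G] {S H : Subgroup G}

theorem nm_fit_of (hN : Nm S H) : Nm S (fit H) := by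
  rintro s hs _ ⟨v, hv, rfl⟩
  let α : H ≃* H :=
    { toFun := fun g => ⟨s * g * s⁻¹, hN s hs _ g.2⟩
      invFun := fun g => ⟨s⁻¹ * g * s⁻¹⁻¹, hN _ (inv_mem hs) _ g.2⟩
      left_inv := fun g => Subtype.ext (by simp [mul_assoc])
      right_inv := fun g => Subtype.ext (by simp only [mul_assoc, _root_.inv_inv, _root_.mul_assoc, _root_.mul_inv_cancel_left, _root_.mul_inv_cancel, _root_.mul_one])
      map_mul' := fun a b => Subtype.ext (by simp only [mul_assoc, _root_.Subgroup.coe_mul, _root_.mul_assoc, _root_.MulMemClass.mk_mul_mk, _root_.inv_mul_cancel_left]) }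
  have h1 : (fittingSubgroup H).map α.toMonoidHom ≤ fittingSubgroup H := by
    have hn : (fittingSubgroup H).Normal := Lib.Cores.fittingSubgroup_normal
    have hnil : Group.IsNilpotent (fittingSubgroup H) := Lib.Cores.fittingSubgroup_isNilpotent
    exact Lib.Cores.le_fittingSubgroup (hn.map _ α.surjective)
      (Group.nilpotent_of_surjective _ (α.toMonoidHom.subgroupMap_surjective _))
  exact ⟨α v, h1 (Subgroup.mem_map_of_mem _ hv), rfl⟩

/-- **Coprime action of `E_{p²}` on the Fitting subgroup.** -/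
theorem he_grp {p : ℕ} (hp : p.Prime) (hS : Group.IsSolvable S) (hH : H ≤ S) (hN : Nm S H)
    (hF : ∀ f ∈ fit S, f ∈ H → ∀ j : ℕ, f ^ p ^ j = 1 → f = 1) {a e : G} (ha : a ∈ H) (he : e ∈ H) (hap : a ^ p = 1)
    (hep : e ^ p = 1) (ha1 : a ≠ 1) (hc : a * e = e * a) (hz : e ∉ Subgroup.zpowers a) :
    ∃ e' ∈ Subgroup.closure {a, e}, e' ≠ 1 ∧ ∃ f ∈ H, f * e' = e' * f ∧ ∀ j : ℕ, (a⁻¹ * (f * a * f⁻¹)) ^ p ^ j ≠ 1 := by
  have := Fact.mk hp
  have hle := NT.le_fit ((fit_le H).trans hH) (nm_fit_of hN) (fit_nilpotent H)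
  have h1 : ∀ f ∈ fit H, ∀ j : ℕ, f ^ p ^ j = 1 → f = 1 := fun f hf => hF f (hle hf) (fit_le H hf)
  have hco : ∀ x ∈ ({a, e} : Set G), ∀ y ∈ ({a, e} : Set G), x * y = y * x := by
    rintro x (rfl | rfl) y (rfl | rfl)
    exacts [rfl, hc, hc.symm, rfl]
  have hE : Subgroup.closure {a, e} ≤ H := (Subgroup.closure_le _).2 (by
    rintro x (rfl | rfl)
    exacts [ha, he])
  have hcomm : IsMulCommutative (Subgroup.closure ({a, e} : Set G)) := Subgroup.isMulCommutative_closure hco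
  have hexp : ∀ x ∈ Subgroup.closure ({a, e} : Set G), x ^ p = 1 := fun x hx => by
    induction hx using Subgroup.closure_induction with
    | mem x hx =>
      rcases hx with rfl | rfl
      exacts [hap, hep]
    | one => exact one_pow p
    | mul x y hx hy h2 h3 =>
      rw [(show Commute x y from congrArg Subtype.val (hcomm.1.1 ⟨x, hx⟩ ⟨y, hy⟩)).mul_pow, h2, h3, one_mul]
    | inv x _ h2 => rw [inv_pow, h2, inv_one]
  have haE : a ∈ Subgroup.closure ({a, e} : Set G) := Subgroup.subset_closure (Or.inl rfl)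
  have hcyc : ¬ IsCyclic (Subgroup.closure ({a, e} : Set G)) := fun h => by
    have h2 : Nat.card (Subgroup.closure ({a, e} : Set G)) ∣ p := by
      rw [← IsCyclic.exponent_eq_card]
      exact Monoid.exponent_dvd_of_forall_pow_eq_one fun x => Subtype.ext (hexp x x.2)
    have h3 := Subgroup.eq_of_le_of_card_ge (Subgroup.zpowers_le.2 haE) (by
      rw [Nat.card_zpowers, orderOf_eq_prime hap ha1]
      exact Nat.le_of_dvd hp.pos h2)
    exact hz (h3.ge (Subgroup.subset_closure (Or.inr rfl)))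
  have hcop : (Nat.card (Subgroup.closure ({a, e} : Set G))).Coprime (Nat.card (fit H)) := by
    obtain ⟨n, hn⟩ := IsPGroup.iff_card.1 (show IsPGroup p (Subgroup.closure ({a, e} : Set G)) from
      fun x => ⟨1, Subtype.ext (by rw [pow_one]; exact hexp x x.2)⟩)
    rw [hn]
    refine (hp.coprime_iff_not_dvd.2 fun h => ?_).pow_left n
    obtain ⟨x, hx⟩ := exists_prime_orderOf_dvd_card' p h
    have h2 : x = 1 := Subtype.ext (h1 x x.2 1 (by
      rw [pow_one]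
      exact congrArg Subtype.val (hx ▸ pow_orderOf_eq_one x)))
    rw [h2, orderOf_one] at hx
    exact hp.ne_one hx.symm
  have h2 := S0058.result _ (fit H) hcyc (hE.trans (le_normalizer_of_conj fun s hs v hv => fit_conj hs hv)) hcop
  by_contra h
  push Not at h
  have h3 : fit H ≤ Subgroup.centralizer {a} := by
    rw [← h2]
    refine iSup₂_le fun e' he' f hf => ?_
    obtain ⟨j, hj⟩ := h e' he'.1 he'.2 f (fit_le H hf.1) (Subgroup.mem_centralizer_singleton_iff.1 hf.2)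
    have h4 : a⁻¹ * (f * a * f⁻¹) ∈ fit H := by
      rw [show a⁻¹ * (f * a * f⁻¹) = a⁻¹ * f * a⁻¹⁻¹ * f⁻¹ by group]
      exact mul_mem (fit_conj (inv_mem ha) hf.1) (inv_mem hf.1)
    have h5 := inv_mul_eq_one.1 (h1 _ h4 j hj)
    exact Subgroup.mem_centralizer_singleton_iff.2 (mul_inv_eq_iff_eq_mul.1 h5.symm)
  have := Group.isSolvable_of_isSolvable_injective (f := Subgroup.inclusion hH) (Subgroup.inclusion_injective _)
  refine ha1 (h1 a (Subgroup.mem_map_of_mem H.subtype (x := ⟨a, ha⟩) (S0044.result ?_)) 1 (by rwa [pow_one]))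
  exact Subgroup.mem_centralizer_iff.2 fun n hn =>
    Subtype.ext (Subgroup.mem_centralizer_singleton_iff.1 (h3 (Subgroup.mem_map_of_mem _ hn)))

end Grp

variable {D : ChevalleyDatum} {l : ℕ} {M : CoxeterMatrix (Fin l)} {hp : IsType D l M} {p : ℕ} [Fact p.Prime]
  {q : ℕ} {G : Type} [Group G] [Finite G] {T S : Subgroup G}

open DS.Nt in
theorem gc (C : Ctx p T S) (F : XF hp p q T) :
    GC p F.L.σ (F.L.GH S) F.L.ι.range (im F.L (S ⊓ T)) (im F.L (fit S ⊓ T)) := by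
  have h1 : ∀ M₀, Inv (F.L.GH S) M₀ → Nm S (pb F.L M₀) := fun M₀ hM => nm_of_le (norm_pb C.as.normal (F.L.inv_iff.2 hM))
  have h2 : ∀ M₀, Inv (F.L.GH S) M₀ → ¬ F.L.ι.range ≤ M₀ → pb F.L M₀ ≤ S := fun M₀ hM hK =>
    C.max.le_of_inv C.as (pb_le M₀) (fun e => hK (by
      rintro _ ⟨x, rfl⟩
      exact coe_mem_pb.1 (e.ge x.2))) (h1 M₀ hM)
  refine ⟨F.L.σ_mem_GH C.as.normal C.as.cent S, fun φ hφ => F.L.σ_apply (F.L.GH_le S hφ), ?_, ?_, F.L.pel,
    fun y h => F.L.cent y fun x => h _ ⟨x, rfl⟩, ?_, ?_, ?_⟩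
  · rintro _ ⟨x, rfl⟩
    exact F.L.fix x
  · rintro _ ⟨x, hx, rfl⟩
    exact F.L.conj_mem_GH C.as.normal C.as.cent hx.1
  · rintro M₀ hM hK _ hy ⟨x, rfl⟩
    exact ι_mem_im.2 ⟨h2 M₀ hM hK (coe_mem_pb.2 hy), x.2⟩
  · intro M₀ hM hK a ha e he a1 e1 a2 e2 a3 hc hz
    obtain ⟨a, rfl⟩ := F.L.pel a a1 ⟨1, by rwa [pow_one]⟩
    obtain ⟨e, rfl⟩ := F.L.pel e e1 ⟨1, by rwa [pow_one]⟩
    have h3 : ∀ x : T, F.L.ι x ^ p = 1 → (x : G) ^ p = 1 := fun x h =>
      congrArg Subtype.val (F.L.inj (a₁ := x ^ p) (a₂ := 1) (by rw [map_pow, h, map_one]))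
    obtain ⟨e', b1, b2, f, b3, b4, b5⟩ := he_grp Fact.out C.solv (h2 M₀ hM hK) (h1 M₀ hM)
      (fun f hf hf' j => eq_one_of_p (F := F) C hf (le_ID _ (pb_le M₀ hf'))) (coe_mem_pb.2 ha) (coe_mem_pb.2 he)
      (h3 a a2) (h3 e e2) (fun h => a3 (by rw [show a = 1 from Subtype.ext h, map_one]))
      (congrArg Subtype.val (F.L.inj (a₁ := a * e) (a₂ := e * a) (by rw [map_mul, map_mul, hc])))
      (fun ⟨k, hk⟩ => hz ⟨k, by rw [show e = a ^ k from Subtype.ext hk.symm, map_zpow]⟩)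
    obtain ⟨c1, c2⟩ := mem_pb.1 ((Subgroup.closure_le (pb F.L (Subgroup.closure {F.L.ι a, F.L.ι e}))).2 (by
      rintro x (rfl | rfl)
      exacts [coe_mem_pb.2 (Subgroup.subset_closure (Or.inl rfl)), coe_mem_pb.2 (Subgroup.subset_closure (Or.inr rfl))]) b1)
    obtain ⟨c3, c4⟩ := mem_pb.1 b3
    refine ⟨_, c2, fun h => b2 (congrArg Subtype.val (F.L.inj (h.trans (map_one _).symm))), _, c4, F.L.fix _, ?_,
      fun j h => b5 j ?_⟩
    · rw [← map_mul, ← map_mul]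
      exact congrArg _ (Subtype.ext b4)
    · rw [← map_inv, ← map_inv, ← map_mul, ← map_mul, ← map_mul, ← map_pow] at h
      exact congrArg Subtype.val (F.L.inj (h.trans (map_one _).symm))
  · rintro _ ⟨x, hx, rfl⟩ j h
    rw [← map_pow] at h
    rw [show x = 1 from Subtype.ext (eq_one_of_p (F := F) C hx.1 (le_ID _ x.2)
      (congrArg Subtype.val (F.L.inj (h.trans (map_one _).symm)))), map_one]

variable (F : XF hp p q T)

theorem isFA_pos {φ : F.L.Γ} (h : 0 < F.deg φ) : ∃ ex, IsFA F.dat (φ : MulAut (YY D p)) ex := by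
  obtain ⟨h1, y, g, ex, Mx, h2⟩ := F.pos φ h
  exact ⟨ex, y⁻¹, _, g, ⟨h1.conj_mul y, h2.root, h2.x, Mx, h2.τ⟩, by rw [map_inv, inv_mul_cancel_left]⟩

theorem isFA_frob {φ : F.L.Γ} {j : ℕ} (hj : 0 < j) (h : F.deg φ = F.κ * j) :
    IsFA F.dat (φ : MulAut (YY D p)) fun _ => j := by
  obtain ⟨h1, y, g, h2⟩ := F.frob φ j h
  let D' := DL.Ex.chevFr hp (locFin p) hj (h1.conj_mul y) h2
  exact ⟨y⁻¹, _, g, ⟨D'.amb, D'.g_root, D'.F_x, D'.Mx, D'.F_τ⟩, by rw [map_inv, inv_mul_cancel_left]⟩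

theorem deg_pos (φ : F.L.Γ) : ∃ n : ℕ, 0 < F.deg (φ * sg F ^ n) ∧ F.deg (φ * sg F ^ n) = F.deg φ + n * (F.κ * F.m.e) := by
  have h1 : ∀ n : ℕ, F.deg (φ * sg F ^ n) = F.deg φ + n * (F.κ * F.m.e) := fun n => by
    rw [F.deg_mul, ← zpow_natCast, deg_zpow, deg_sg]
  refine ⟨(F.deg φ).natAbs + 1, ?_, h1 _⟩
  have h2 : (1 : ℤ) ≤ F.κ * F.m.e := by exact_mod_cast Nat.mul_pos (kappa_pos (F := F)) F.m.he
  have h3 := neg_le_abs (F.deg φ)
  rw [h1]
  push_cast
  nlinarith [abs_nonneg (F.deg φ)]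

theorem coe_sg (φ : F.L.Γ) (n : ℕ) : ((φ * sg F ^ n : F.L.Γ) : MulAut (YY D p)) = φ * F.m.σ ^ n := by
  rw [← F.hσ]
  rfl

omit F in
theorem adj_id (f : (Fin l → ℤ) →+ ℤ) (a : Fin l → ℤ) : ∑ j, a j * f (sr j) = f a := by
  conv_rhs => rw [IsMC.eq_sum_sr a, map_sum]
  exact Finset.sum_congr rfl fun j _ => (map_zsmul f _ _).symm

theorem hyp (hC : BoxMC) (hD : Typ D) (S : Subgroup G) : Hyp F.dat F.m.e (F.L.GH S) where
  he := F.m.he
  ex _ _ := rfl
  cz := DS.Ex.Tor.commZ hp p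
  ir := hC.ir D l M hp hD
  adj f := ⟨_, adj_id (l := l) f⟩
  fa φ hφ := by
    obtain ⟨n, h, -⟩ := deg_pos F ⟨φ, F.L.GH_le S hφ⟩
    obtain ⟨ex, h1⟩ := isFA_pos F h
    rw [coe_sg] at h1
    exact ⟨n, ex, h1⟩
  typ := by
    by_cases h : D = chevF4 → p = 2
    · exact Or.inl (hC.dc D l M hp hD p h)
    · push Not at h
      obtain ⟨rfl, h2⟩ := h
      refine Or.inr ⟨h2, hC.f4 l M hp, fun φ hφ => ?_⟩
      obtain ⟨n, h, -⟩ := deg_pos F ⟨φ, F.L.GH_le S hφ⟩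
      obtain ⟨j, hj⟩ := Int.eq_ofNat_of_zero_le h.le
      have h1 := isFA_frob F (j := j) (by omega) (by
        rw [hj, F.hκ.resolve_right fun h => h2 h.2.1, Nat.cast_one, one_mul])
      rw [coe_sg] at h1
      exact ⟨n, j, h1⟩

open DS.Nt in
theorem bad (C : Ctx p T S) {x : T} {φ : F.L.Γ} (h1 : F.L.π φ ∈ fit S) (h2 : (x : G)⁻¹ * F.L.π φ * x ∈ S) :
    Bad (F.L.GH S) (im F.L (S ⊓ T)) (im F.L (fit S ⊓ T)) (F.L.ι x) φ := by
  let ξ : F.L.Γ := ⟨MulAut.conj (F.L.ι x), F.L.full _ x (ind_iota x)⟩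
  have h3 : F.L.π ξ = x := F.L.π_eq C.as.normal C.as.cent ξ (ind_iota x)
  refine ⟨F.L.mem_GH.2 ⟨φ.2, fit_le S h1⟩, F.L.mem_GH.2 ⟨(ξ⁻¹ * φ * ξ).2, ?_⟩, ?_⟩
  · show F.L.π (ξ⁻¹ * φ * ξ) ∈ S
    rwa [map_mul, map_mul, map_inv, h3]
  · rintro _ ⟨r, hr, rfl⟩
    rw [act' C.as.normal, ← map_inv F.L.ι, ← map_mul]
    refine ι_mem_im.2 ⟨?_, Subtype.prop _⟩
    show F.L.π φ * r * (F.L.π φ)⁻¹ * (r : G)⁻¹ ∈ fit S
    rw [mul_assoc, mul_assoc, ← mul_assoc (r : G)]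
    exact mul_mem h1 (fit_conj hr.1 (inv_mem h1))

theorem kinds (hC : BoxMC) (C : Ctx p T S) (he : F.m.e = 1) {c : G} (hc : c ∈ fit S) (hs : (orderOf c).Prime) :
    ∃ φ : F.L.Γ, F.L.π φ = c ∧ (Inner p (φ : MulAut (YY D p)) ∨ Graph F.dat φ ∨ OddD F.dat φ) := by
  obtain ⟨φ₀, rfl⟩ := F.L.surj c
  have h0 : F.deg (sg F) = F.κ := by rw [deg_sg, he, Nat.cast_one, mul_one]
  by_cases h : (F.κ : ℤ) ∣ F.deg φ₀
  · obtain ⟨j, hj⟩ := h
    have h1 : F.deg (φ₀ * sg F ^ (-j)) = 0 := by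
      rw [F.deg_mul, deg_zpow, h0, hj]
      ring
    have h2 : F.L.π (φ₀ * sg F ^ (-j)) = F.L.π φ₀ := by rw [map_mul, map_zpow, pi_sg C.as, one_zpow, mul_one]
    refine ⟨_, h2, ?_⟩
    rcases F.alg _ h1 with ⟨y, hy⟩ | ⟨rfl, y, g, w, Φ, hg⟩
    · have h3 := ind_of_conj hy
      rw [h2] at h3
      have h4 := orderOf_ind C.as h3
      refine Or.inl ⟨y, _, hs, fun e => ?_, h4 ▸ pow_orderOf_eq_one y, fun e => ?_, hy⟩
      · rw [eq_one_of_p C hc ⟨y, h3⟩ (k := 1) (by rw [pow_one, ← orderOf_dvd_iff_pow_eq_one, e]), orderOf_one] at hs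
        exact Nat.not_prime_one hs
      · rw [← h4, e, orderOf_one] at hs
        exact Nat.not_prime_one hs
    · have h3 := isFA_frob F (φ := sg F * (φ₀ * sg F ^ (-j))) one_pos (by
        rw [F.deg_mul, h1, h0, Nat.cast_one, mul_one, add_zero])
      refine Or.inr (Or.inl ⟨hC.e6 l M hp, ?_, y, w, fun t ht => (Φ.tor t).2 ht, fun a ha u hu => ?_⟩)
      · rwa [Subgroup.coe_mul, show (sg F : MulAut (YY chevE6 p)) = F.m.σ from F.hσ] at h3
      · exact (congrArg (fun b => _ ∈ XX chevE6 l (KK p) b) (hg a)).mp ((Φ.map a ha u).2 hu)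
  · have h1 : F.κ = 2 := (F.hκ.resolve_left fun e => h (by rw [e]; exact one_dvd _)).2.2
    obtain ⟨n, h2, h3⟩ := deg_pos F φ₀
    obtain ⟨m, hm⟩ := Int.eq_ofNat_of_zero_le h2.le
    refine ⟨φ₀ * sg F ^ n, by rw [map_mul, map_pow, pi_sg C.as, one_pow, mul_one], Or.inr (Or.inr
      ⟨isFA_pos F h2, m, ?_, fun y => ?_⟩)⟩
    · rw [h1] at h h3
      rw [he] at h3
      rw [Nat.odd_iff]
      omega
    · have h4 := (F.frob ((φ₀ * sg F ^ n) * (φ₀ * sg F ^ n)) m (by rw [F.deg_mul, hm, h1, Nat.cast_ofNat, two_mul])).1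
      rw [pow_two, mul_assoc, ← mul_assoc _ (MulAut.conj y), mul_conj_eq, mul_assoc, ← mul_assoc, ← map_mul]
      exact CI.fq (by omega) (h4.conj_mul _)

/-- **`BoxMax` from the abstract form.** -/
theorem boxMax_of (hM : BoxMain) (hC : BoxMC) : BoxMax := by
  intro D l M hp hD p _ G _ _ T S C q F A₀ h0 hA ⟨z, h1, b, hb, h2⟩
  obtain ⟨he, _, ⟨x, rfl⟩, h⟩ := hM p (KK p) _ _ _ _ F.dat F.m.e _ _ _ _ A₀ (F.hσ ▸ gc C F) (hyp F hC hD S) h0
    (F.L.inv_iff.1 hA) ⟨z⁻¹, fun a ha => by rw [inv_inv]; exact h1 a ha, b, hb, fun a ha => by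
      obtain ⟨c, hc⟩ := (DL.Ex.mem_TT_iff hp _).1 (h1 a ha)
      rw [inv_inv, ← h2 a ha, ← hc]
      exact (F.dat.χ_τ b c).trans (DL.Ex.cX_tau hp c b).symm⟩
  refine ⟨x, x.2, fun v hv hx => ?_⟩
  by_contra h3
  obtain ⟨s, hs, hd⟩ := Nat.exists_prime_and_dvd (mt orderOf_eq_one_iff.1 fun e : (v : G) = 1 => h3 (Subtype.ext e))
  have h4 : (v : G) ^ (orderOf (v : G) / s) ∈ fit S := pow_mem (Subgroup.mem_map_of_mem S.subtype hv) _
  obtain ⟨φ, h5, h6⟩ := kinds F hC C he h4 (by rwa [orderOf_pow_orderOf_div (orderOf_pos _).ne' hd])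
  refine h φ (bad F C (h5 ▸ h4) ?_) h6
  have h7 := pow_mem (show (x : G)⁻¹ * v * (x : G)⁻¹⁻¹ ∈ S by rwa [inv_inv]) (orderOf (v : G) / s)
  rwa [conj_pow, inv_inv, ← h5] at h7

end Cfsg.Agent.SB.Exc.Max
end
end

-- part: SB/Exc/NT/Main
section
prune_inst 0xc0000000012202000000000020000000000000000020000080000000000003000000090000000102000080000000002000000000000000000000000000000000100046004281010ca00008800004000000000000000000000000000000000000000000000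
set_option linter.all false
open scoped Cfsg.Agent.FastGrp

-- part: SB/Exc/NT/Cen
section
/-!
# S5765, exceptional groups, no invariant toral subgroup: order bounds in the algebraic group (helper86)

* `sum_eq_zero`, `pow_of_sum`, `card_fix_three` : fixed points of an elliptic element of prime order on the torus;
* `exists_rp`, `cen_bound` : the centraliser of `E` when a toral subgroup of index `r` has no roots;
* `ea_of_el`, `f4_mul`, `e7_inv`, `card_le_81`.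
-/

set_option autoImplicit false
set_option linter.unusedSectionVars false

namespace Cfsg.Agent.SB.Exc.NT

open CoxeterSystem Cfsg Cfsg.Lie Cfsg.Lie.ChevalleyDatum
open Cfsg.Agent.ChevalleyStructure Cfsg.Agent.ChevalleyStructure.Elts Cfsg.Agent.ChevalleyStructure.CoxeterGeom
  Cfsg.Agent.ChevalleyStructure.CoxeterGeomTypes
open Cfsg.Agent.Tits.Roots Cfsg.Agent.Tits.Core Cfsg.Agent.Nodes Cfsg.Agent.Nodes.Reps Cfsg.Agent.Nodes.BNOf
  Cfsg.Agent.Nodes.RGDChev Cfsg.Agent.Nodes.Bruhat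
open Cfsg.Agent.KFacts.RgdField Cfsg.Agent.KFacts.RgdChevCoord
open Cfsg.Agent.BpExc Cfsg.Agent.BpExc.TorCent Cfsg.Agent.BpExc.TorChev Cfsg.Agent.BpExc.Tow
  Cfsg.Agent.BpExc.TowChev Cfsg.Agent.BpExc.Fr Cfsg.Agent.BpExc.LangFr
open Cfsg.Agent.H469.Exc Cfsg.Agent.H795.SetCent Cfsg.Agent.H129.TorusChar Cfsg.Agent.DS.Ex
open Cfsg.Agent.H185.EE Cfsg.Agent.H931.KC Cfsg.Agent.DS Cfsg.Agent.DS.Nt

variable {D : ChevalleyDatum} {l : ℕ} {M : CoxeterMatrix (Fin l)} {hp : IsType D l M} {p : ℕ} [Fact p.Prime]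

/-! ### elliptic elements -/

theorem sum_eq_zero (hD : Typ D) {r : ℕ} {w : M.Group} {k : YY D p} (hk : RP hp p w k) (hw : w ^ r = 1)
    (h0 : ∀ s : ℕ, s.Prime → r < s → ∀ u ∈ TT D (KK p), k * u = u * k → u ^ s = 1 → u = 1) :
    ∑ i ∈ Finset.range r, rep M.toCoxeterSystem hp.isCartan w ^ i = 0 := by
  obtain ⟨N, hN⟩ : ∃ N, N = ∑ i ∈ Finset.range r, rep M.toCoxeterSystem hp.isCartan w ^ i := ⟨_, rfl⟩
  have h1 : N * rep M.toCoxeterSystem hp.isCartan w = N := by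
    have h2 := geom_sum_mul (rep M.toCoxeterSystem hp.isCartan w) r
    rwa [← hN, ← map_pow, hw, map_one, sub_self, mul_sub, mul_one, sub_eq_zero] at h2
  rw [← hN]
  refine LinearMap.ext fun x => funext fun i => ?_
  by_contra h2
  obtain ⟨s, hs, hs'⟩ := Nat.exists_infinite_primes (r + p + (N x i).natAbs + 1)
  obtain ⟨ζ, hζ⟩ := exists_prim (p := p) hs' (by omega)
  obtain ⟨t, ht, h3⟩ := exists_tor_zpow hp hD (hζ.ne_zero hs'.ne_zero)
    ((Pi.evalAddMonoidHom (fun _ : Fin l => ℤ) i).comp N.toAddMonoidHom)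
  have h4 : ∀ y, cX hp t y = ζ ^ N y i := h3
  have h5 := h0 s hs' (by omega) t ht (hk.comm ht fun y => by rw [h4, h4, ← Module.End.mul_apply, h1])
    (pow_eq_one_of_cX (hp := hp) ht fun y => by
      rw [h4, ← zpow_natCast, ← zpow_mul, mul_comm, zpow_mul, zpow_natCast, hζ.pow_eq_one, one_zpow])
  have h6 := h4 x
  rw [h5, cX_one, eq_comm, hζ.zpow_eq_one_iff_dvd] at h6
  have h7 := Int.natAbs_le_of_dvd_ne_zero h6 h2
  rw [Int.natAbs_natCast] at h7
  omega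

theorem pow_of_sum {r : ℕ} {w : M.Group} {k : YY D p} (hk : RP hp p w k)
    (hN : ∑ i ∈ Finset.range r, rep M.toCoxeterSystem hp.isCartan w ^ i = 0) {t : YY D p} (ht : t ∈ TT D (KK p))
    (h : k * t = t * k) : t ^ r = 1 := by
  refine pow_eq_one_of_cX (hp := hp) ht fun x => ?_
  have h1 : ∀ i : ℕ, cX hp t ((rep M.toCoxeterSystem hp.isCartan w ^ i) x) = cX hp t x := by
    intro i
    induction i with
    | zero => rw [pow_zero, Module.End.one_apply]
    | succ i ih => rw [pow_succ', Module.End.mul_apply, hk.cX_of_comm ht h, ih]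
  have h2 := (isMC_cX hp ht).sum (Finset.range r) fun i => (rep M.toCoxeterSystem hp.isCartan w ^ i) x
  rw [← LinearMap.sum_apply, hN, LinearMap.zero_apply, (isMC_cX hp ht).zero, Finset.prod_congr rfl fun i _ => h1 i,
    Finset.prod_const, Finset.card_range] at h2
  exact h2.symm

variable (hp p) in
/-- the elements of order dividing `r` of the torus -/
def Tr (r : ℕ) : Subgroup (YY D p) where
  carrier := {t | t ∈ TT D (KK p) ∧ t ^ r = 1}
  one_mem' := ⟨one_mem _, one_pow _⟩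
  mul_mem' := by
    rintro a b ⟨h1, h2⟩ ⟨h3, h4⟩
    exact ⟨mul_mem h1 h3, by rw [(show Commute a b from TT_comm hp _ h1 _ h3).mul_pow, h2, h4, one_mul]⟩
  inv_mem' := by
    rintro a ⟨h1, h2⟩
    exact ⟨inv_mem h1, by rw [inv_pow, h2, inv_one]⟩

theorem card_sub_Tr {r : ℕ} (hr : 0 < r) {Q : Subgroup (YY D p)} (hQ : Q ≤ Tr hp p r) : Nat.card Q ≤ r ^ l :=
  Rank.card_toral_le hp hr Q 1 (fun x hx => by rw [one_mul, inv_one, mul_one]; exact (hQ hx).1) fun x hx => (hQ hx).2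

theorem finite_Tr {r : ℕ} (hr : 0 < r) : Finite (Tr hp p r) :=
  finite_of_bound hr (fun _ hx _ hy => TT_comm hp _ hx.1 _ hy.1) (fun _ hx => hx.2) fun _ hQ _ => card_sub_Tr hr hQ

theorem IsMC.comp' {k : Type*} [Field k] {φ : (Fin l → ℤ) → k} (h : IsMC φ) (α : Module.End ℤ (Fin l → ℤ)) :
    IsMC fun x => φ (α x) :=
  ⟨by show φ (α 0) = 1; rw [map_zero, h.zero], fun x y => by show φ (α (x + y)) = _; rw [map_add, h.add]⟩

theorem card_fix_three (hD : Typ D) {w : M.Group} {k : YY D p} (hk : RP hp p w k)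
    (hN : ∑ i ∈ Finset.range 3, rep M.toCoxeterSystem hp.isCartan w ^ i = 0) :
    Nat.card ↥(TT D (KK p) ⊓ Subgroup.centralizer {k}) ^ 2 ≤ 3 ^ l := by
  obtain ⟨W, hW⟩ : ∃ W, W = rep M.toCoxeterSystem hp.isCartan w := ⟨_, rfl⟩
  have hB : ∀ u : ↥(TT D (KK p) ⊓ Subgroup.centralizer {k}), k * u = u * k := fun u =>
    (Subgroup.mem_centralizer_singleton_iff.1 u.2.2).symm
  have hfix : ∀ (u : ↥(TT D (KK p) ⊓ Subgroup.centralizer {k})) x, cX hp (u : YY D p) (x - W x) = 1 := fun u x => by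
    rw [(isMC_cX hp u.2.1).sub, hW, hk.cX_of_comm u.2.1 (hB u), div_self ((isMC_cX hp u.2.1).ne_zero x)]
  have h1 : ∀ x, W (W x) = -x - W x := fun x => by
    have h2 := LinearMap.congr_fun hN x
    rw [← hW, Finset.sum_range_succ, Finset.sum_range_succ, Finset.sum_range_one, pow_zero, pow_one, pow_two,
      LinearMap.add_apply, LinearMap.add_apply, Module.End.one_apply, Module.End.mul_apply, LinearMap.zero_apply] at h2
    linear_combination (exp := 1) h2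
  have hex : ∀ u : ↥(TT D (KK p) ⊓ Subgroup.centralizer {k}), ∃ s ∈ Tr hp p 3, ∀ x,
      cX hp s (x - W x) = cX hp (u : YY D p) x := by
    intro u
    obtain ⟨a, ha, h2⟩ := exists_root_T hp hD u.2.1 (n := 3) (by norm_num)
    obtain ⟨s, hs, h3⟩ := exists_tor hp hD (IsMC.comp' (isMC_cX hp ha) (1 + 1 + W))
    have h4 : ∀ x, cX hp s x = cX hp a (x + x + W x) := h3
    have h5 : ∀ x, cX hp a (3 • x) = cX hp (u : YY D p) x := fun x => by
      rw [(isMC_cX hp ha).nsmul, ← cX_pow hp ha, h2]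
    refine ⟨s, ⟨hs, pow_eq_one_of_cX (hp := hp) hs fun x => ?_⟩, fun x => ?_⟩
    · rw [h4, ← (isMC_cX hp ha).nsmul, h5, ← hfix u (x + W x)]
      congr 1
      rw [map_add, h1]
      abel
    · rw [h4, ← h5]
      congr 1
      rw [map_sub, h1]
      simp only [three_nsmul]
      abel
  choose s hs hs' using hex
  have := finite_Tr (hp := hp) (p := p) (r := 3) (by norm_num)
  have h2 := Nat.card_le_card_of_injective (fun x : ↥(TT D (KK p) ⊓ Subgroup.centralizer {k}) ×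
    ↥(TT D (KK p) ⊓ Subgroup.centralizer {k}) => (⟨s x.1 * x.2, mul_mem (hs x.1)
      ⟨x.2.2.1, pow_of_sum hk hN x.2.2.1 (hB x.2)⟩⟩ : Tr hp p 3)) (by
    rintro ⟨u, v⟩ ⟨u', v'⟩ h
    have h3 : s u * v = s u' * v' := congrArg Subtype.val h
    obtain rfl : u = u' := Subtype.ext (cX_inj hp u.2.1 u'.2.1 fun i => by
      have h4 := congrArg (fun y => cX hp y (sr i - W (sr i))) h3
      rwa [cX_mul hp (hs u).1 v.2.1, cX_mul hp (hs u').1 v'.2.1, hfix, hfix, hs', hs', mul_one, mul_one] at h4)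
    rw [Subtype.ext (mul_left_cancel h3)])
  rw [Nat.card_prod, ← pow_two] at h2
  exact h2.trans (card_sub_Tr (by norm_num) le_rfl)

/-! ### the centraliser of `E` -/

theorem exists_hom_T (hp : IsType D l M) {r : ℕ} {A : Subgroup (YY D p)} (h : EL p r A) {g : YY D p}
    (hg : ∀ a ∈ A, g * a * g⁻¹ ∈ TT D (KK p)) (hF : Module.finrank (KK p) (Fx p (A : Set (YY D p))) = l) :
    ∃ (P : Subgroup M.Group) (f : Subgroup.centralizer (A : Set (YY D p)) →* P), IsPGroup r P ∧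
      ∀ x, RP hp p (f x : M.Group) (g * x * g⁻¹) := by
  have := finW hp
  have := h.fin
  have hPs := Ps_empty hp hg hF
  have hMz : Mz hp p (cS g A) ≤ ⊥ := Mz_le fun a ha => absurd ha (hPs a)
  have hex : ∀ c : Subgroup.centralizer (A : Set (YY D p)),
      ∃ w : PPZ M.toCoxeterSystem hp.isCartan (ch hp) (cS g A), RP hp p w (g * c * g⁻¹) := fun c => by
    obtain ⟨m, hm, w, hw, k, h1, -, h2⟩ := _root_.Cfsg.Agent.DS.Nt.form hp (cS_finite g A) (cS_sub hg) (c := g * c * g⁻¹)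
      (cS_comm fun a ha => (Subgroup.mem_centralizer_iff.1 c.2 a ha).symm)
    rw [Subgroup.mem_bot.1 (hMz hm), one_mul] at h2
    exact ⟨⟨w, hw⟩, by rw [h2]; exact h1⟩
  choose f hf using hex
  refine ⟨_, MonoidHom.mk' f fun a b => Subtype.ext ((hf (a * b)).unique ?_), fun w => ?_, hf⟩
  · have h1 := (hf a).mul (hf b)
    have e : g * (a : YY D p) * g⁻¹ * (g * b * g⁻¹) = g * ((a * b : Subgroup.centralizer (A : Set (YY D p))) : YY D p) * g⁻¹ := by
      rw [Subgroup.coe_mul]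
      group
    rwa [e] at h1
  · obtain ⟨n, hn⟩ := pp_pow (cS_sub hg) h.prime (cS_pow h.pow) w.2
    exact ⟨n, Subtype.ext hn⟩

/-- the elements of order prime to `r` of the centraliser form a toral subgroup -/
theorem exists_rp (hp : IsType D l M) {r : ℕ} {E A : Subgroup (YY D p)} (h : EL p r A) (hA : A ≤ E) (hT : Toral p A)
    (hF : Module.finrank (KK p) (Fx p (A : Set (YY D p))) = l) : ∃ B : Subgroup (YY D p), Toral p B ∧
      ∀ x, x ∈ B ↔ (∀ e ∈ E, x * e = e * x) ∧ ∃ n : ℕ, r.Coprime n ∧ x ^ n = 1 := by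
  obtain ⟨g, hg⟩ := hT
  obtain ⟨P, f, hP, hf⟩ := exists_hom_T hp h hg hF
  have key : ∀ x : YY D p, (∀ e ∈ E, x * e = e * x) → (∃ n : ℕ, r.Coprime n ∧ x ^ n = 1) → g * x * g⁻¹ ∈ TT D (KK p) := by
    rintro x h1 ⟨n, h2, h3⟩
    have h4 : x ∈ Subgroup.centralizer (A : Set (YY D p)) :=
      Subgroup.mem_centralizer_iff.2 fun a ha => (h1 a (hA ha)).symm
    obtain ⟨j, hj⟩ := hP (f ⟨x, h4⟩)
    have h5 : f ⟨x, h4⟩ ∈ (⊥ : Subgroup P) := mem_of_pow_coprime (a := r ^ j) (b := n) (Subgroup.mem_bot.2 hj)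
      (by rw [← map_pow, show (⟨x, h4⟩ : Subgroup.centralizer (A : Set (YY D p))) ^ n = 1 from Subtype.ext h3, map_one]
          exact one_mem _) (h2.pow_left j)
    have h6 := hf ⟨x, h4⟩
    rw [Subgroup.mem_bot.1 h5] at h6
    exact h6.mem_T
  refine ⟨{ carrier := {x | (∀ e ∈ E, x * e = e * x) ∧ ∃ n : ℕ, r.Coprime n ∧ x ^ n = 1}
            one_mem' := ⟨fun e _ => by rw [one_mul, mul_one], 1, Nat.coprime_one_right r, one_pow 1⟩
            mul_mem' := ?_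
            inv_mem' := ?_ }, ⟨g, fun a ha => key a ha.1 ha.2⟩, fun _ => Iff.rfl⟩
  · rintro a b ⟨h1, n, h2, h3⟩ ⟨h4, m, h5, h6⟩
    refine ⟨fun e he => by rw [mul_assoc, h4 e he, ← mul_assoc, h1 e he, mul_assoc], n * m, h2.mul_right h5, ?_⟩
    have h7 := comm_of_conj (TT_comm hp _ (key a h1 ⟨n, h2, h3⟩) _ (key b h4 ⟨m, h5, h6⟩))
    have e : g⁻¹ * (g * a * g⁻¹) * g = a := by group
    rw [e] at h7
    rw [(show Commute a b from h7).mul_pow, pow_mul, h3, one_pow, mul_comm n, pow_mul, h6, one_pow, one_mul]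
  · rintro a ⟨h1, n, h2, h3⟩
    exact ⟨fun e he => (show Commute a e from h1 e he).inv_left, n, h2, by rw [inv_pow, h3, inv_one]⟩

theorem cen_bound (hp : IsType D l M) (hD : Typ D) {r : ℕ} {E A : Subgroup (YY D p)} (hE : EA p r E) (hA : A ≤ E)
    (hT : Toral p A) (hF : Module.finrank (KK p) (Fx p (A : Set (YY D p))) = l) (hn : ¬ Toral p E)
    (hc : Nat.card E ≤ r * Nat.card A)
    (h0 : ∀ x : YY D p, (∀ e ∈ E, x * e = e * x) → ∀ n : ℕ, r.Coprime n → x ^ n = 1 → x = 1) {j : ℕ}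
    (hW : ¬ r ^ (j + 1) ∣ Nat.card M.Group) : Finite (Subgroup.centralizer (E : Set (YY D p))) ∧
      ∃ b, Nat.card (Subgroup.centralizer (E : Set (YY D p))) ≤ b * r ^ j ∧ b ≤ r ^ l ∧ (r = 3 → b ^ 2 ≤ 3 ^ l) := by
  have := finW hp
  have := hE.fin
  have := Fact.mk hE.prime
  obtain ⟨g, hg⟩ := hT
  obtain ⟨P, f, hP, hf⟩ := exists_hom_T hp (hE.mono hA).el hg hF
  obtain ⟨e, he, he'⟩ : ∃ e ∈ E, g * e * g⁻¹ ∉ TT D (KK p) := by
    by_contra h1
    push Not at h1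
    exact hn ⟨g, h1⟩
  have hle : A ⊔ Subgroup.zpowers e ≤ E := sup_le hA (Subgroup.zpowers_le.2 he)
  have hgen : A ⊔ Subgroup.zpowers e = E := by
    refine Subgroup.eq_of_le_of_card_ge hle (hc.trans ?_)
    have := (hE.mono hle).fin
    obtain ⟨a, ha⟩ := (hE.mono hA).el.exists_card
    obtain ⟨b, hb⟩ := (hE.mono hle).el.exists_card
    have h3 : Nat.card A < Nat.card ↥(A ⊔ Subgroup.zpowers e) := by
      by_contra h4
      exact he' (hg e ((Subgroup.eq_of_le_of_card_ge le_sup_left (not_lt.1 h4)).ge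
        (Subgroup.mem_sup_right (Subgroup.mem_zpowers e))))
    rw [ha, hb] at h3 ⊢
    rw [← pow_succ']
    exact Nat.pow_le_pow_right hE.prime.pos ((Nat.pow_lt_pow_iff_right hE.prime.one_lt).1 h3)
  have heA : e ∈ Subgroup.centralizer (A : Set (YY D p)) :=
    Subgroup.mem_centralizer_iff.2 fun a ha => hE.comm a (hA ha) e he
  have hk := hf ⟨e, heA⟩
  have hN := sum_eq_zero hD hk (r := r) (by
    rw [← Subgroup.coe_pow, ← map_pow,
      show (⟨e, heA⟩ : Subgroup.centralizer (A : Set (YY D p))) ^ r = 1 from Subtype.ext (hE.pow e he), map_one,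
      Subgroup.coe_one]) fun s hs hrs u hu h1 h2 => by
    have h3 : E ≤ Subgroup.centralizer {g⁻¹ * u * g} := by
      rw [← hgen]
      exact sup_le (fun a ha => Subgroup.mem_centralizer_singleton_iff.2
        (comm_of_conj (TT_comm hp _ hu _ (hg a ha))).symm)
        (Subgroup.zpowers_le.2 (Subgroup.mem_centralizer_singleton_iff.2 (comm_of_conj h1.symm).symm))
    have h4 := h0 (g⁻¹ * u * g) (fun x hx => (Subgroup.mem_centralizer_singleton_iff.1 (h3 hx)).symm) s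
      ((Nat.coprime_primes hE.prime hs).2 hrs.ne) (by
        have h5 := conj_pow (a := g⁻¹) (b := u) (i := s)
        rw [inv_inv] at h5
        rw [h5, h2, mul_one, inv_mul_cancel])
    rw [mul_assoc, inv_mul_eq_one, eq_comm, mul_eq_right] at h4
    exact h4
  have hB : TT D (KK p) ⊓ Subgroup.centralizer {g * e * g⁻¹} ≤ Tr hp p r := fun t ht =>
    ⟨ht.1, pow_of_sum hk hN ht.1 (Subgroup.mem_centralizer_singleton_iff.1 ht.2).symm⟩
  have := finite_Tr (hp := hp) (p := p) hE.prime.pos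
  have : Finite ↥(TT D (KK p) ⊓ Subgroup.centralizer {g * e * g⁻¹}) :=
    Finite.of_injective _ (Subgroup.inclusion_injective hB)
  let f' := f.comp (Subgroup.inclusion (Subgroup.centralizer_le (show (A : Set (YY D p)) ⊆ E from hA)))
  have hker : ∀ x : f'.ker, g * ((x : Subgroup.centralizer (E : Set (YY D p))) : YY D p) * g⁻¹ ∈
      TT D (KK p) ⊓ Subgroup.centralizer {g * e * g⁻¹} := fun x => by
    have h1 := hf (Subgroup.inclusion (Subgroup.centralizer_le (show (A : Set (YY D p)) ⊆ E from hA)) x)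
    rw [show f _ = 1 from x.2] at h1
    exact ⟨h1.mem_T, Subgroup.mem_centralizer_singleton_iff.2
      (conj_comm (Subgroup.mem_centralizer_iff.1 x.1.2 e he).symm)⟩
  have hinj : Function.Injective fun x : f'.ker =>
      (⟨_, hker x⟩ : ↥(TT D (KK p) ⊓ Subgroup.centralizer {g * e * g⁻¹})) := fun x y h =>
    Subtype.ext (Subtype.ext (mul_left_cancel (mul_right_cancel (congrArg Subtype.val h))))
  have hfin : Finite (Subgroup.centralizer (E : Set (YY D p))) :=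
    f'.finite_iff_finite_ker_range.2 ⟨Finite.of_injective _ hinj, inferInstance⟩
  refine ⟨hfin, _, ?_, card_sub_Tr hE.prime.pos hB, ?_⟩
  · rw [← f'.ker.card_mul_index, Subgroup.index_ker]
    refine Nat.mul_le_mul (Nat.card_le_card_of_injective _ hinj) ((Subgroup.card_le_card_group _).trans ?_)
    obtain ⟨n, hn⟩ := IsPGroup.iff_card.1 hP
    rw [hn]
    refine Nat.pow_le_pow_right hE.prime.pos ?_
    by_contra h1
    exact hW ((pow_dvd_pow r (by omega)).trans (hn ▸ P.card_subgroup_dvd_card))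
  · rintro rfl
    exact card_fix_three hD hk hN

/-! ### classes -/

theorem ea_of_el (hp : IsType D l M) (hD : Typ D) {r : ℕ} {A : Subgroup (YY D p)} (h : EL p r A)
    (h6 : ¬ (D = chevE6 ∧ r = 3)) (h7 : ¬ (D = chevE7 ∧ r = 2)) : EA p r A :=
  ⟨h.prime, h.ne, h.fin, h.comm, h.pow, fun x hx y hy => by
    obtain ⟨K, h1, -, h2 | h2 | h2⟩ := exists_DD hp hD h.prime h.ne (h.pow x hx)
    · exact (h1 y (h.comm y hy x hx) ⟨1, by rw [pow_one, h.pow y hy]⟩).2 (h2 y (h.comm y hy x hx))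
    · exact absurd ⟨h2.1, h2.2.1⟩ h6
    · exact absurd ⟨h2.1, h2.2.1⟩ h7⟩

/-- the number of roots of `F₄` trivial on the involution with the coordinates `a, b, c, d` -/
def n4 (a b c d : ℤ) : ℕ := (Finset.univ.filter fun s : Fin chevF4.nroots =>
  ((2 : ℕ) : ℤ) ∣ vec chevF4 4 s 0 * a + vec chevF4 4 s 1 * b + vec chevF4 4 s 2 * c + vec chevF4 4 s 3 * d).card

theorem tab4 : ∀ a b c d : Fin 2, (n4 (a : ℕ) (b : ℕ) (c : ℕ) (d : ℕ) = 32 → c = 0 ∧ d = 0) ∧
    (n4 (a : ℕ) (b : ℕ) (c : ℕ) (d : ℕ) = 20 → ¬ (c = 0 ∧ d = 0)) := by decide +kernel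

theorem f4_tor {M : CoxeterMatrix (Fin 4)} (hp : IsType chevF4 4 M) (h2 : 2 ≠ p) {x : YY chevF4 p}
    (hx : x ∈ TT chevF4 (KK p)) (hx2 : x ^ 2 = 1) :
    (dd p x = 36 → cX hp x (sr 2) = 1 ∧ cX hp x (sr 3) = 1) ∧
      (dd p x = 24 → ¬ (cX hp x (sr 2) = 1 ∧ cX hp x (sr 3) = 1)) := by
  obtain ⟨ζ, hζ⟩ := exists_prim (p := p) Nat.prime_two h2
  obtain ⟨b, hb, e⟩ := J2.exists_bits (hp := hp) hζ hx hx2
  have h0 : dd p x = 4 + n4 (b 0) (b 1) (b 2) (b 3) := by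
    rw [dd_tor_zpow hp hx hζ e]
    congr 1
    unfold n4
    exact congrArg Finset.card (Finset.filter_congr fun s _ => by rw [psi_apply, Fin.sum_univ_four])
  have h1 : ∀ i, cX hp x (sr i) = 1 ↔ (⟨b i, hb i⟩ : Fin 2) = 0 := fun i => by
    have h3 := hb i
    rw [e, psi_sr, hζ.zpow_eq_one_iff_dvd, Fin.ext_iff]
    show ((2 : ℕ) : ℤ) ∣ (b i : ℤ) ↔ b i = 0
    omega
  have h3 := tab4 ⟨b 0, hb 0⟩ ⟨b 1, hb 1⟩ ⟨b 2, hb 2⟩ ⟨b 3, hb 3⟩
  rw [h0, h1, h1]
  exact ⟨fun h => h3.1 (by dsimp only; omega), fun h => h3.2 (by dsimp only; omega)⟩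

theorem f4_mul {M : CoxeterMatrix (Fin 4)} (hp : IsType chevF4 4 M) (h2 : 2 ≠ p) {x y : YY chevF4 p} (h : Tp p x y)
    (hx2 : x ^ 2 = 1) (hy2 : y ^ 2 = 1) (hx : dd p x = 36) (hy : dd p y = 36) : dd p (x * y) ≠ 24 := by
  obtain ⟨g, h3, h4⟩ := h
  have e1 : (g * x * g⁻¹) ^ 2 = 1 := by rw [conj_pow, hx2, mul_one, mul_inv_cancel]
  have e2 : (g * y * g⁻¹) ^ 2 = 1 := by rw [conj_pow, hy2, mul_one, mul_inv_cancel]
  have e3 : g * (x * y) * g⁻¹ = (g * x * g⁻¹) * (g * y * g⁻¹) := by group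
  intro h5
  rw [← dd_conj g, e3] at h5
  have a1 := (f4_tor hp h2 h3 e1).1 (by rw [dd_conj, hx])
  have a2 := (f4_tor hp h2 h4 e2).1 (by rw [dd_conj, hy])
  refine (f4_tor hp h2 (mul_mem h3 h4) ?_).2 h5 ⟨?_, ?_⟩
  · rw [(show Commute _ _ from TT_comm hp _ h3 _ h4).mul_pow, e1, e2, one_mul]
  · rw [cX_mul hp h3 h4, a1.1, a2.1, one_mul]
  · rw [cX_mul hp h3 h4, a1.2, a2.2, one_mul]

theorem tab7' : ∀ c : Fin 128, n7 c = 56 ∨ n7 c = 62 ∨ n7 c = 72 ∨ ∀ i : Fin 7, J2.bt c i = 0 := by (delta Cfsg.Agent.DS.Nt.n7 Cfsg.Agent.DS.Nt.J2.bt Cfsg.Agent.DS.Nt.dot7 Cfsg.Agent.DS.Nt.mk7b; set_option synthInstance.maxSize 100000 in exact Cfsg.Agent.Lib.Refl.of (by decide +kernel))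

theorem e7_inv {M : CoxeterMatrix (Fin 7)} (hp : IsType chevE7 7 M) (h2 : 2 ≠ p) {x : YY chevE7 p} (hx2 : x ^ 2 = 1)
    (hx1 : x ≠ 1) : dd p x = 63 ∨ dd p x = 69 ∨ dd p x = 79 := by
  obtain ⟨g, hg⟩ := exists_conj_T hp Nat.prime_two h2 (n := 1) (x := x) hx2
  obtain ⟨ζ, hζ⟩ := exists_prim (p := p) Nat.prime_two h2
  obtain ⟨b, hb, e⟩ := J2.exists_bits (hp := hp) hζ hg (by rw [conj_pow, hx2, mul_one, mul_inv_cancel])
  obtain ⟨c, hc⟩ := exists_byte7 b hb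
  have hb' : (fun i : Fin 7 => (b i : ℤ)) = fun i : Fin 7 => (J2.bt c i : ℤ) := funext fun i => by rw [hc]
  rw [hb'] at e
  have h0 : dd p x = 7 + n7 c := by
    rw [← dd_conj g, dd_tor_zpow hp hg hζ e]
    congr 1
    unfold n7
    exact congrArg Finset.card (Finset.filter_congr fun s _ => J2.dvd_iff_of_modEq (psi_modEq7 c s))
  rcases tab7' c with h | h | h | h
  · omega
  · omega
  · omega
  · refine absurd ?_ hx1
    have h1 : g * x * g⁻¹ = 1 := cX_inj hp hg (one_mem _) fun i => by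
      rw [e, psi_sr, h, cX_one, Nat.cast_zero, zpow_zero]
    rwa [mul_inv_eq_one, mul_eq_left] at h1

/-! ### the second orthogonality bound -/

open Finset in
theorem two_bound {K V E : Type*} [Field K] [IsAlgClosed K] [AddCommGroup V] [Module K V] [FiniteDimensional K V]
    [Group E] [Fintype E] (ρ : E →* Module.End K V) {r : ℕ} (hr : r.Prime) (hK : (r : K) ≠ 0)
    (hc : ∀ x y : E, x * y = y * x) (hx : ∀ x : E, x ^ r = 1) {B : ℤ}
    (hB : ∀ e : E, e ≠ 1 → ∑ c ∈ Polynomial.nthRootsFinset r (1 : K), (DS.NT.ev ρ e c : ℤ) = Module.finrank K V →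
      ∑ c ∈ Polynomial.nthRootsFinset r (1 : K), (DS.NT.ev ρ e c : ℤ) ^ 2 ≤ B) :
    (Fintype.card E : ℤ) * ((Module.finrank K V : ℤ) ^ 2 + (r - 1) * Module.finrank K V) ≤
      r * ((Module.finrank K V : ℤ) ^ 2 + (Fintype.card E - 1) * B) := by
  classical
  obtain ⟨κ, _, χ, h1, h2, -⟩ := DS.NT.exists_chars ρ hK hc hx
  have h := DS.NT.count_chars hr hx fun t : κ × κ => χ t.1 / χ t.2
  have hm : ∀ (j : κ) (e : E), (χ j e : K) ∈ (Polynomial.nthRootsFinset r (1 : K) : Set K) := fun j e => by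
    rw [mem_coe, Polynomial.mem_nthRootsFinset hr.pos, ← Units.val_pow_eq_pow_val, ← map_pow, hx, map_one,
      Units.val_one]
  have h3 : ∀ e, (#{t : κ × κ | (χ t.1 / χ t.2) e = 1} : ℤ) =
      ∑ c ∈ Polynomial.nthRootsFinset r (1 : K), (DS.NT.ev ρ e c : ℤ) ^ 2 := by
    intro e
    rw [card_eq_sum_card_fiberwise (f := fun t : κ × κ => (χ t.1 e : K)) (t := Polynomial.nthRootsFinset r (1 : K))
      (fun t _ => hm t.1 e), Nat.cast_sum]
    refine sum_congr rfl fun c _ => ?_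
    rw [h2, ← Nat.cast_pow, sq, ← card_product]
    congr 2
    ext t
    simp only [mem_filter, mem_univ, true_and, mem_product, MonoidHom.div_apply, div_eq_one, Units.ext_iff]
    constructor
    · rintro ⟨e1, e2⟩
      exact ⟨e2, e1 ▸ e2⟩
    · rintro ⟨e1, e2⟩
      exact ⟨e1.trans e2.symm, e1⟩
  have h4 : ∀ e, ∑ c ∈ Polynomial.nthRootsFinset r (1 : K), (DS.NT.ev ρ e c : ℤ) = Module.finrank K V := by
    intro e
    rw [← h1, ← card_univ, card_eq_sum_card_fiberwise (f := fun j : κ => (χ j e : K))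
      (t := Polynomial.nthRootsFinset r (1 : K)) (fun j _ => hm j e), Nat.cast_sum]
    exact sum_congr rfl fun c _ => by rw [h2]
  have h5 : Module.finrank K V ≤ #{t : κ × κ | χ t.1 / χ t.2 = 1} := by
    rw [← h1, ← card_univ]
    exact card_le_card_of_injOn (fun j => (j, j)) (fun j _ => mem_coe.2 (mem_filter.2 ⟨mem_univ _,
      MonoidHom.ext fun e => by rw [MonoidHom.div_apply, div_self', MonoidHom.one_apply]⟩))
      fun j _ j' _ e => congrArg Prod.fst e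
  have h6 : ∑ e ∈ univ.erase (1 : E), (#{t : κ × κ | (χ t.1 / χ t.2) e = 1} : ℤ) ≤ (Fintype.card E - 1) * B := by
    have h7 := sum_le_card_nsmul (univ.erase (1 : E)) (fun e => (#{t : κ × κ | (χ t.1 / χ t.2) e = 1} : ℤ)) B
      fun e he => by
        rw [h3]
        exact hB e (ne_of_mem_erase he) (h4 e)
    rwa [card_erase_of_mem (mem_univ _), card_univ, nsmul_eq_mul, Nat.cast_pred Fintype.card_pos] at h7
  rw [← add_sum_erase _ _ (mem_univ (1 : E)), Fintype.card_prod, h1] at h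
  simp only [map_one, filter_true, card_univ, Fintype.card_prod, h1, Nat.cast_mul] at h
  have h7 : (Module.finrank K V : ℤ) ≤ #{t : κ × κ | χ t.1 / χ t.2 = 1} := by exact_mod_cast h5
  have h8 : (1 : ℤ) ≤ r := by exact_mod_cast hr.pos
  have h9 := mul_le_mul_of_nonneg_left h7 (mul_nonneg (Int.natCast_nonneg (Fintype.card E)) (sub_nonneg.2 h8))
  have h10 := mul_le_mul_of_nonneg_left h6 (Int.natCast_nonneg r)
  linarith only [h, h9, h10]

theorem card_le_81 {M : CoxeterMatrix (Fin 6)} (hp : IsType chevE6 6 M) {P : Subgroup (YY chevE6 p)} (h : EL p 3 P)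
    (hd : ∀ e ∈ P, e ≠ 1 → dd p e = 24 ∨ dd p e = 30) : Nat.card P ≤ 81 := by
  classical
  have := h.fin
  have := Fintype.ofFinite P
  have hN : Module.finrank (KK p) (chevE6.Idx → KK p) = 78 := by rw [finrank_ad hp, nrE6]
  obtain ⟨ζ, hζ⟩ := exists_prim (p := p) h.prime h.ne
  have h1 := two_bound ((ad chevE6 p).comp P.subtype) h.prime (cast_ne_zero h.prime h.ne)
    (fun x y => Subtype.ext (h.comm x x.2 y y.2)) (fun x => Subtype.ext (h.pow x x.2)) (B := 2052) fun e he h2 => by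
      obtain ⟨g, hg⟩ := exists_conj_T hp h.prime h.ne (n := 1) (x := (e : YY chevE6 p))
        (by rw [pow_one]; exact h.pow e e.2)
      have h3 : (1 : KK p) ∈ Polynomial.nthRootsFinset 3 (1 : KK p) := Polynomial.one_mem_nthRootsFinset (by norm_num)
      have h4 : ∀ c ∈ (Polynomial.nthRootsFinset 3 (1 : KK p)).erase 1,
          DS.NT.ev ((ad chevE6 p).comp P.subtype) e c = DS.NT.ev (ad chevE6 p) e ζ := by
        intro c hc
        obtain ⟨i, hi, rfl⟩ := hζ.eq_pow_of_pow_eq_one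
          ((Polynomial.mem_nthRootsFinset (by norm_num) _).1 (Finset.mem_of_mem_erase hc))
        have h5 := Finset.ne_of_mem_erase hc
        interval_cases i
        · exact absurd (pow_zero ζ) h5
        · rw [pow_one]
          rfl
        · rw [show ζ ^ 2 = ζ⁻¹ from eq_inv_of_mul_eq_one_left (by rw [← pow_succ, hζ.pow_eq_one])]
          exact ev_inv hp hg ζ
      have h5 : ((Polynomial.nthRootsFinset 3 (1 : KK p)).erase 1).card = 2 := by
        rw [Finset.card_erase_of_mem h3, hζ.card_nthRootsFinset]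
      have h6 : DS.NT.ev ((ad chevE6 p).comp P.subtype) e 1 = dd p (e : YY chevE6 p) := rfl
      rw [← Finset.add_sum_erase _ _ h3, Finset.sum_congr rfl fun c hc => by rw [h4 c hc], Finset.sum_const, h5, h6,
        nsmul_eq_mul] at h2 ⊢
      rw [hN] at h2
      rcases hd e e.2 fun h7 => he (Subtype.ext h7) with h7 | h7
      · rw [h7] at h2 ⊢
        have h8 : (DS.NT.ev (ad chevE6 p) e ζ : ℤ) = 27 := by
          push_cast at h2
          linarith only [h2]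
        rw [h8]
        norm_num
      · rw [h7] at h2 ⊢
        have h8 : (DS.NT.ev (ad chevE6 p) e ζ : ℤ) = 24 := by
          push_cast at h2
          linarith only [h2]
        rw [h8]
        norm_num
  rw [hN, ← Nat.card_eq_fintype_card] at h1
  have h2 : (Nat.card P : ℤ) ≤ 144 := by
    push_cast at h1
    linarith
  obtain ⟨n, hn⟩ := h.exists_card
  rw [hn] at h2 ⊢
  have h3 : 3 ^ n < 3 ^ 5 := by
    have h4 : 3 ^ n ≤ 144 := by exact_mod_cast h2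
    omega
  exact Nat.pow_le_pow_right (by norm_num) (show n ≤ 4 from
    Nat.lt_succ_iff.1 ((Nat.pow_lt_pow_iff_right (by norm_num)).1 h3))

end Cfsg.Agent.SB.Exc.NT
end

-- part: SB/Exc/NT/Main
section
/-!
# S5765, exceptional groups: no invariant toral subgroup (helper86)

`caseA`, `caseB`, `caseC` : the three outcomes of the structure theorems of `DS/Nt`; `boxNT_of`.
-/

set_option autoImplicit false
set_option linter.unusedSectionVars false

namespace Cfsg.Agent.SB.Exc.NT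

open CoxeterSystem Cfsg Cfsg.Lie Cfsg.Lie.ChevalleyDatum
open Cfsg.Agent.ChevalleyStructure Cfsg.Agent.Nodes.RGDChev Cfsg.Agent.KFacts.RgdChevCoord
open Cfsg.Agent.H469.Exc Cfsg.Agent.H316.U6 Cfsg.Agent.DS.Ex Cfsg.Agent.H786.FC
open Cfsg.Agent.DS.Nt hiding Ctx

variable {D : ChevalleyDatum} {l : ℕ} {M : CoxeterMatrix (Fin l)} {hp : IsType D l M} {p : ℕ} [Fact p.Prime]

theorem low_bound (hp : IsType D l M) {N : ℕ} (hN : D.nroots = N) {r d : ℕ} {A : Subgroup (YY D p)} (h : EL p r A)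
    (hF : Module.finrank (KK p) (Fx p (A : Set (YY D p))) = l) (hd : ∀ e ∈ A, e ≠ 1 → d ≤ dd p e) :
    ((r : ℤ) - 1) * (l + N : ℕ) + r * ((Nat.card A - 1) * d) ≤
      (r - 1) * Nat.card A * l + (Nat.card A - 1) * (l + N : ℕ) := by
  classical
  subst hN
  have := h.fin
  have := Fintype.ofFinite A
  have h1 := DS.NT.dim_one ((ad D p).comp A.subtype) h.prime (cast_ne_zero h.prime h.ne)
    (fun x y => Subtype.ext (h.comm x x.2 y y.2)) (fun x => Subtype.ext (h.pow x x.2)) (Fx p (A : Set (YY D p)))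
    (fun v => ⟨fun hv e => hv e e.2, fun hv e he => hv ⟨e, he⟩⟩)
  have h2 := Finset.card_nsmul_le_sum (Finset.univ.erase (1 : A))
    (fun e => (DS.NT.ev ((ad D p).comp A.subtype) e 1 : ℤ)) (d : ℤ) fun e he =>
      Int.ofNat_le.2 (hd e e.2 fun h3 => Finset.ne_of_mem_erase he (Subtype.ext h3))
  rw [Finset.card_erase_of_mem (Finset.mem_univ _), Finset.card_univ, nsmul_eq_mul, Nat.cast_pred Fintype.card_pos]
    at h2
  rw [finrank_ad hp, hF] at h1
  rw [Nat.card_eq_fintype_card, h1]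
  have h3 := mul_le_mul_of_nonneg_left h2 (Int.natCast_nonneg r)
  linarith only [h3]

variable {q : ℕ} {G : Type} [Group G] [Finite G] {T S E : Subgroup G} {F : XF hp p q T} {r : ℕ}

theorem crit' (hC : BoxCrit) (hD : Typ D) (C : Ctx p T S) (F : XF hp p q T) {f r j b a c p₀ mI mG mO : ℕ}
    (N : Num l f r j b a c p₀ (p₀ ^ 2) mI mG mO) (h0 : p₀ ≤ p)
    (hf : Nat.card ↥(fit S ⊓ F.ID C.as.normal) ≤ f) (hr : Nat.card ↥(S ⊓ T) ≤ r)
    (hb : ∀ c' ∈ fit S, ∀ y, F.Ind y c' → (orderOf y).Prime → orderOf y ≠ p →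
      Nat.card ↥(DL.fix F.L.σ ⊓ Subgroup.centralizer {y}) ≤ b * (q ^ a * (q + 1) ^ c))
    (hj : D = chevE6 → p ≠ 2 → (∀ X : Subgroup G, X ≤ S ⊓ T → IsPGroup 2 X → Nm S X → Nat.card X ≤ 2 ^ j) ∧
      mG ^ (j + 1) * (3 * r) ≤ ordU l 3) : FitReg T S := by
  have h1 := F.m.hq
  have h2 := F.m.he
  refine crit hC hD C F N (h0.trans ?_) (fun h3 => (Nat.pow_le_pow_left h0 2).trans ?_) hf hr hb hj
  · rw [← h1]
    exact Nat.le_self_pow h2.ne' p
  · rw [← h1] at h3 ⊢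
    refine Nat.pow_le_pow_right (Fact.out : p.Prime).pos ?_
    by_contra h4
    exact h3 (by rw [show F.m.e = 1 by omega, pow_one])

theorem le_bI (hCI : BoxCI) (hD : Typ D) {y : YY D p} {c : G} (h : F.Ind y c) (h1 : (orderOf y).Prime)
    (h2 : orderOf y ≠ p) : Nat.card ↥(DL.fix F.L.σ ⊓ Subgroup.centralizer {y}) ≤ bI l p q := by
  have h3 := hCI D l M hp hD p F.m.e F.L.σ F.m.g F.m.he (by rw [F.hσ]; exact F.m.frob) (by rw [F.hσ]; exact F.m.fr) y
    (ind_fix h) h1 h2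
  rwa [F.m.hq] at h3

theorem le_b6 (hCI : BoxCI6) {M : CoxeterMatrix (Fin 6)} {hp : IsType chevE6 6 M} {F : XF hp p q T}
    {y : YY chevE6 p} {c : G} (h : F.Ind y c) (h1 : orderOf y = 3) (h2 : orderOf y ≠ p)
    (h3 : ¬ LC p y ∨ ∃ x : YY chevE6 p, x ^ 3 = 1 ∧ x * y = y * x ∧ ¬ Tp p y x) :
    Nat.card ↥(DL.fix F.L.σ ⊓ Subgroup.centralizer {y}) ≤ 3 * (q ^ 24 * (q + 1) ^ 6) := by
  obtain rfl := eqE6 hp
  have h4 := (hCI p F.m.e F.L.σ F.m.g F.m.he (by rw [F.hσ]; exact F.m.frob) (by rw [F.hσ]; exact F.m.fr) y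
    (ind_fix h) (by rw [h1]; norm_num) h2).2 h1 h3
  rwa [F.m.hq] at h4

theorem bI4 (p q : ℕ) : bI 4 p q = 1 * (q ^ (if p = 2 then 18 else 32) * (q + 1) ^ 4) := by
  by_cases h : p = 2 <;> simp [bI, h]

theorem bI6 (p q : ℕ) : bI 6 p q = 1 * (q ^ 40 * (q + 1) ^ 6) := by simp [bI]

theorem bI7 (p q : ℕ) : bI 7 p q = 2 * (q ^ 72 * (q + 1) ^ 7) := by simp [bI]

theorem bI8 (p q : ℕ) : bI 8 p q = 1 * (q ^ 128 * (q + 1) ^ 8) := by simp [bI]

theorem neE6_F4 : chevF4 ≠ chevE6 := fun h => absurd (congrArg ChevalleyDatum.nroots h) (by rw [nrE6, nrF4]; norm_num)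

theorem neE6_E7 : chevE7 ≠ chevE6 := fun h => absurd (congrArg ChevalleyDatum.nroots h) (by rw [nrE6, nrE7]; norm_num)

theorem neE6_E8 : chevE8 ≠ chevE6 := fun h => absurd (congrArg ChevalleyDatum.nroots h) (by rw [nrE6, nrE8]; norm_num)

theorem neE7_E8 : chevE8 ≠ chevE7 := fun h => absurd (congrArg ChevalleyDatum.nroots h) (by rw [nrE7, nrE8]; norm_num)

theorem three_le (h : 2 ≠ p) : 3 ≤ p := by
  have h1 := (Fact.out : p.Prime).two_le
  omega

theorem five_le (h2 : p ≠ 2) (h3 : 3 ≠ p) : 5 ≤ p := (Fact.out : p.Prime).five_le_of_ne_two_of_ne_three h2 h3.symm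

theorem two_le_fit {X : Subgroup G} (h1 : X ≤ S ⊓ T) (h2 : IsPGroup 2 X) (h3 : Nm S X) :
    X ≤ fit S ⊓ T :=
  le_inf (le_fit (h1.trans inf_le_left) h3 h2.isNilpotent) (h1.trans inf_le_right)

theorem imD_le_cen (C : Ctx p T S) (hL : DS.Loc T S E r) :
    imD F C.as.normal (fit S) ≤ Subgroup.centralizer (im F.L E : Set (YY D p)) := fun y hy => by
  obtain ⟨c, h1, h2⟩ := (mem_imD C.as.normal).1 hy
  refine Subgroup.mem_centralizer_iff.2 ?_
  rintro _ ⟨x, hx, rfl⟩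
  exact (ind_comm h2 (fit_cent C hL c h1 x hx)).symm

/-! ### a toral subgroup of `E` without roots -/

theorem dataA (C : Ctx p T S) (N : DS.Nt.Ctx F.L S) (hL : DS.Loc T S E r) (hE : EA p r (im F.L E))
    {A : Subgroup (YY D p)} (hA : A ≤ im F.L E) (hT : _root_.Cfsg.Agent.DS.Ex.Toral p A)
    (hF : Module.finrank (KK p) (Fx p (A : Set (YY D p))) = l) (hc : Nat.card E ≤ r * Nat.card A) {j n : ℕ}
    (hW : ¬ r ^ (j + 1) ∣ Nat.card M.Group) (hn : Nat.card E ≤ r ^ n) :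
    (∀ y : YY D p, (∀ e ∈ im F.L E, y * e = e * y) → ∀ m : ℕ, r.Coprime m → y ^ m = 1 → y = 1) ∧
    ∃ b, Nat.card ↥(fit S ⊓ F.ID C.as.normal) ≤ b * r ^ j ∧ Nat.card ↥(S ⊓ T) ≤ b * r ^ j * (r ^ n) ^ n ∧
      b ≤ r ^ l ∧ (r = 3 → b ^ 2 ≤ 3 ^ l) := by
  have hI : F.L.Inv S (im F.L E) := inv_im hL.normal hL.norm.ge
  obtain ⟨B, h1, h2⟩ := exists_rp hp (hE.mono hA).el hA hT hF
  have h3 := N.noT B h1 fun φ hφ y hy => by
    obtain ⟨a1, m, a2, a3⟩ := (h2 y).1 hy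
    exact (h2 _).2 ⟨fun e he => comm_app φ (a1 _ (hI φ⁻¹ (π_inv hφ) e he)), m, a2, by rw [← map_pow, a3, map_one]⟩
  have h0 : ∀ y : YY D p, (∀ e ∈ im F.L E, y * e = e * y) → ∀ m : ℕ, r.Coprime m → y ^ m = 1 → y = 1 :=
    fun y a1 m a2 a3 => Subgroup.mem_bot.1 (h3.le ((h2 y).2 ⟨a1, m, a2, a3⟩))
  obtain ⟨hfin, b, h4, h5, h6⟩ := cen_bound hp N.typ hE hA hT hF (N.not_toral hL) (by rwa [card_im hL.le_S]) h0 hW
  refine ⟨h0, b, ?_, (card_le_aut hL).trans (Nat.mul_le_mul ?_ ?_), h5, h6⟩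
  · rw [← card_imD C.as]
    exact (Subgroup.card_le_of_le (imD_le_cen C hL)).trans h4
  · rw [← card_im (L := F.L) (inf_le_right : Subgroup.centralizer (E : Set G) ⊓ T ≤ T)]
    refine (Subgroup.card_le_of_le ?_).trans h4
    rintro _ ⟨x, hx, rfl⟩
    exact Subgroup.mem_centralizer_iff.2 fun e he => (ι_comm hx.1 he).symm
  · exact card_mulAut_le hL.prime (fun x => ⟨1, Subtype.ext (by rw [pow_one]; exact hL.pow x x.2)⟩) hn

theorem numA4 : Num 4 (3 ^ 4) (3 ^ 13) 0 1 18 4 2 (2 ^ 2) (32 * 3 ^ 14) (100 * 3 ^ 13) (7 * 3 ^ 17) := by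
  constructor <;> decide +kernel

theorem numA4' : Num 4 (3 ^ 4) (3 ^ 13) 0 1 32 4 5 (5 ^ 2) (3 ^ 18) (3 ^ 14) (3 ^ 18) := by
  constructor <;> decide +kernel

theorem numA6 : Num 6 (3 ^ 7) (3 ^ 16) 0 3 24 6 2 (2 ^ 2) (3 ^ 24) (3 ^ 17) (3 ^ 24) := by
  constructor <;> decide +kernel

theorem numA85 : Num 8 (5 ^ 10) (5 ^ 19) 0 1 128 8 2 (2 ^ 2) (5 ^ 30) (5 ^ 20) (5 ^ 30) := by
  constructor <;> decide +kernel

theorem numA82 : Num 8 (2 ^ 22) (2 ^ 47) 0 1 128 8 3 (3 ^ 2) (2 ^ 71) (2 ^ 49) (2 ^ 71) := by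
  constructor <;> decide +kernel

theorem caseA (hCI : BoxCI) (hC6 : BoxCI6) (hC : BoxCrit) (C : Ctx p T S) (N : DS.Nt.Ctx F.L S) (hL : DS.Loc T S E r)
    (hE : EA p r (im F.L E)) (h : OutA F.L E r) : FitReg T S := by
  obtain ⟨⟨A, hA, hT, hF⟩, h1⟩ := h
  have hW := card_W hp
  have hl := typ_l hp
  have h2p := (Fact.out : p.Prime).two_le
  rcases h1 with ⟨rfl, rfl, h2⟩ | ⟨rfl, rfl, -⟩ | ⟨rfl, rfl, h2⟩ | ⟨rfl, rfl, h2⟩
  · obtain rfl := hl.1 rfl
    have h3 := low_bound hp nrF4 (hE.mono hA).el hF (d := 16) fun e he h1 =>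
      (((iso_F4 hE.prime (N.iso hL hE (hA he) h1)).resolve_left fun h => absurd h.1 (by norm_num)).2).ge
    obtain ⟨-, b, h4, h5, -, h6⟩ := dataA C N hL hE hA hT hF (by omega) (j := 2) (by rw [hW.1 rfl]; norm_num) h2
    have h7 : b ≤ 9 := by
      have h8 := h6 rfl
      nlinarith only [h8]
    by_cases hp2 : p = 2
    · exact crit' hC N.typ C F numA4 h2p (by omega) (by omega) (fun c _ y a1 a2 a3 => by
        have h8 := le_bI hCI N.typ a1 a2 a3
        rwa [bI4, if_pos hp2] at h8) fun e => absurd e neE6_F4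
    · exact crit' hC N.typ C F numA4' (five_le hp2 hE.ne) (by omega) (by omega) (fun c _ y a1 a2 a3 => by
        have h8 := le_bI hCI N.typ a1 a2 a3
        rwa [bI4, if_neg hp2] at h8) fun e => absurd e neE6_F4
  · obtain rfl := hl.2.1 rfl
    have hd : ∀ e ∈ im F.L E, e ≠ 1 → dd p e = 24 := fun e he h1 =>
      ((iso_E6 hE.prime (N.iso hL hE he h1)).resolve_left fun h => absurd h.1 (by norm_num)).2
    have h3 := low_bound hp nrE6 (hE.mono hA).el hF (d := 24) fun e he h1 => (hd e (hA he) h1).ge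
    have h2 : Nat.card E ≤ 3 ^ 3 := by
      have a1 := pure_eq hp hE.el hd
      have e : ((6 + chevE6.nroots : ℕ) : ℤ) = 78 := by
        rw [nrE6]
        norm_num
      rw [e, mul_assoc, card_im hL.le_S] at a1
      have a2 : (0 : ℤ) ≤ (Nat.card E : ℤ) * Module.finrank (KK p) (Fx p (im F.L E : Set (YY chevE6 p))) :=
        mul_nonneg (Int.natCast_nonneg _) (Int.natCast_nonneg _)
      omega
    obtain ⟨h0, b, h4, h5, -, h6⟩ := dataA C N hL hE hA hT hF (by omega) (j := 4) (by rw [hW.2.1 rfl]; norm_num) h2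
    have h7 : b ≤ 27 := by
      have h8 := h6 rfl
      nlinarith only [h8]
    have hcen : ∀ c ∈ fit S, ∀ y, F.Ind y c → ∀ e ∈ im F.L E, y * e = e * y := fun c a0 y a1 e he =>
      (Subgroup.mem_centralizer_iff.1 (imD_le_cen C hL ((mem_imD C.as.normal).2 ⟨c, a0, a1⟩)) e he).symm
    refine crit' hC N.typ C F numA6 h2p (by omega) (by omega) (fun c a0 y a1 a2 a3 => ?_)
      fun _ _ => ⟨fun X a1 a2 a3 => ?_, by decide +kernel⟩
    · have a4 : orderOf y = 3 := by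
        by_contra a5
        have a6 := h0 y (hcen c a0 y a1) _ ((Nat.coprime_primes Nat.prime_three a2).2 (Ne.symm a5))
          (pow_orderOf_eq_one y)
        rw [a6, orderOf_one] at a2
        exact Nat.not_prime_one a2
      refine le_b6 hC6 a1 a4 a3 (Or.inl fun a5 => ?_)
      obtain ⟨s, hs⟩ := exists_Lp p
      obtain ⟨u, a6, a7, a8⟩ := a5 s hs
      exact a6 (h0 u (fun e he => a8 e (hcen c a0 y a1 e he).symm) s
        ((Nat.coprime_primes Nat.prime_three hs.1).2 (by have := hs.2.1; omega)) a7)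
    · refine (Subgroup.card_le_one_iff_eq_bot X).2 (eq_bot_iff.2 fun x hx => ?_)
      obtain ⟨k, hk⟩ := a2 ⟨x, hx⟩
      have a4 : x ^ 2 ^ k = 1 := congrArg Subtype.val hk
      have a5 := h0 _ (hcen x (two_le_fit a1 a2 a3 hx).1 _ (ind_iota ⟨x, (a1 hx).2⟩)) (2 ^ k)
        (Nat.Coprime.pow_right k (by norm_num)) (by
          rw [← map_pow, show (⟨x, (a1 hx).2⟩ : T) ^ 2 ^ k = 1 from Subtype.ext a4, map_one])
      rw [← map_one F.L.ι] at a5
      exact Subgroup.mem_bot.2 (congrArg Subtype.val (F.L.inj a5))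
  · obtain rfl := hl.2.2.2 rfl
    have h3 := low_bound hp nrE8 (hE.mono hA).el hF (d := 48) fun e he h1 =>
      ((((iso_E8 hE.prime (N.iso hL hE (hA he) h1)).resolve_left fun h => absurd h.1 (by norm_num)).resolve_left
        fun h => absurd h.1 (by norm_num)).2).ge
    obtain ⟨-, b, h4, h5, h6, -⟩ := dataA C N hL hE hA hT hF (by omega) (j := 2) (by rw [hW.2.2.2 rfl]; norm_num) h2
    exact crit' hC N.typ C F numA85 h2p (by omega) (by omega) (fun c _ y a1 a2 a3 => by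
      have h8 := le_bI hCI N.typ a1 a2 a3
      rwa [bI8] at h8) fun e => absurd e neE6_E8
  · obtain rfl := hl.2.2.2 rfl
    have h3 := low_bound hp nrE8 (hE.mono hA).el hF (d := 120) fun e he h1 => by
      rcases (((iso_E8 hE.prime (N.iso hL hE (hA he) h1)).resolve_right fun h =>
        h.elim (fun h => absurd h.1 (by norm_num)) fun h => absurd h.1 (by norm_num)).2) with h | h <;> omega
    obtain ⟨-, b, h4, h5, h6, -⟩ := dataA C N hL hE hA hT hF (by omega) (j := 14) (by rw [hW.2.2.2 rfl]; norm_num) h2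
    exact crit' hC N.typ C F numA82 (three_le hE.ne) (by omega) (by omega) (fun c _ y a1 a2 a3 => by
      have h8 := le_bI hCI N.typ a1 a2 a3
      rwa [bI8] at h8) fun e => absurd e neE6_E8

/-! ### the centraliser of `E` is elementary abelian -/

theorem dataB (C : Ctx p T S) (hL : DS.Loc T S E r) (hE : EA p r (im F.L E)) {d : ℕ} {J : YY D p → Subgroup (YY D p)}
    (h : DOut F.L E r d J) : ∃ B : Subgroup (YY D p), EL p r B ∧ F.L.Inv S B ∧
      Nat.card ↥(fit S ⊓ T) ≤ Nat.card B := by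
  refine ⟨im F.L (Subgroup.centralizer (E : Set G) ⊓ T), ⟨hE.prime, hE.ne, finite_im _ _, ?_, ?_⟩,
    inv_im hL.normal (le_normalizer_of_conj fun s hs x hx => ⟨?_, hL.normal.conj_mem _ hx.2 s⟩), ?_⟩
  · rintro _ ⟨x, hx, rfl⟩ _ ⟨y, hy, rfl⟩
    rw [← map_mul, ← map_mul, show x * y = y * x from Subtype.ext (h.comm x hx y hy)]
  · rintro _ ⟨x, hx, rfl⟩
    rw [← map_pow, show x ^ r = 1 from Subtype.ext (h.pow x hx), map_one]
  · refine Subgroup.mem_centralizer_iff.2 fun e he => ?_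
    have h1 := Subgroup.mem_centralizer_iff.1 hx.1 _ (nm_of_le hL.norm.ge _ (inv_mem hs) e he)
    calc e * (s * x * s⁻¹) = s * (s⁻¹ * e * s⁻¹⁻¹ * x) * s⁻¹ := by group
      _ = _ := by rw [h1]; group
  · rw [card_im inf_le_right]
    exact Subgroup.card_le_of_le (inf_le_inf_right _ fun c hc =>
      Subgroup.mem_centralizer_iff.2 fun x hx => (fit_cent C hL c hc x hx).symm)

theorem critB (hC : BoxCrit) (hD : Typ D) (C : Ctx p T S) (F : XF hp p q T) {n j b a c p₀ mI mG mO : ℕ}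
    (N : Num l (dM l * n) (n ^ 4) j b a c p₀ (p₀ ^ 2) mI mG mO) (h0 : p₀ ≤ p) (hn : Nat.card ↥(fit S ⊓ T) ≤ n)
    (hb : ∀ c' ∈ fit S, ∀ y, F.Ind y c' → (orderOf y).Prime → orderOf y ≠ p →
      Nat.card ↥(DL.fix F.L.σ ⊓ Subgroup.centralizer {y}) ≤ b * (q ^ a * (q + 1) ^ c))
    (hj : D = chevE6 → p ≠ 2 → n ≤ 2 ^ j ∧ mG ^ (j + 1) * (3 * n ^ 4) ≤ ordU l 3) : FitReg T S :=
  crit' hC hD C F N h0 ((card_ID_le C.as _).trans (Nat.mul_le_mul_left _ hn))
    ((card_inf_le C).trans (Nat.pow_le_pow_left hn 4)) hb fun e h2 =>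
      ⟨fun _ a1 a2 a3 => ((Subgroup.card_le_of_le (two_le_fit a1 a2 a3)).trans hn).trans (hj e h2).1, (hj e h2).2⟩

theorem numB4 : Num 4 (dM 4 * 2 ^ 3) ((2 ^ 3) ^ 4) 0 1 32 4 3 (3 ^ 2) (2 ^ 17) (2 ^ 14) (2 ^ 17) := by
  constructor <;> decide +kernel

theorem numB6 : Num 6 (dM 6 * 2 ^ 4) ((2 ^ 4) ^ 4) 4 1 40 6 3 (3 ^ 2) (12 * 2 ^ 20) (2 ^ 21) (12 * 2 ^ 20) := by
  constructor <;> decide +kernel

theorem numB72 : Num 7 (dM 7 * 2 ^ 11) ((2 ^ 11) ^ 4) 0 2 72 7 3 (3 ^ 2) (2 ^ 58) (2 ^ 46) (2 ^ 58) := by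
  constructor <;> decide +kernel

theorem numB73 : Num 7 (dM 7 * 3 ^ 3) ((3 ^ 3) ^ 4) 0 2 72 7 2 (2 ^ 2) (3 ^ 17) (3 ^ 13) (3 ^ 17) := by
  constructor <;> decide +kernel

theorem numB82 : Num 8 (dM 8 * 2 ^ 13) ((2 ^ 13) ^ 4) 0 1 128 8 3 (3 ^ 2) (2 ^ 67) (2 ^ 54) (2 ^ 67) := by
  constructor <;> decide +kernel

theorem numB83 : Num 8 (dM 8 * 3 ^ 7) ((3 ^ 7) ^ 4) 0 1 128 8 2 (2 ^ 2) (3 ^ 36) (3 ^ 29) (3 ^ 36) := by
  constructor <;> decide +kernel

theorem caseB (hCI : BoxCI) (hC : BoxCrit) (C : Ctx p T S) (N : DS.Nt.Ctx F.L S) (hL : DS.Loc T S E r)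
    (hE : EA p r (im F.L E)) (h : OutB F.L E r) : FitReg T S := by
  obtain ⟨⟨i, d, J, -, -, hD⟩, h1⟩ := h
  obtain ⟨B, hB, hI, hc⟩ := dataB C hL hE hD
  clear hD
  have hl := typ_l hp
  have h2p := (Fact.out : p.Prime).two_le
  rcases h1 with ⟨rfl, rfl, -⟩ | ⟨rfl, rfl, -⟩ | ⟨rfl, rfl, -⟩ | ⟨rfl, rfl, -⟩ | ⟨rfl, rfl, -⟩ | ⟨rfl, rfl, -⟩
  · obtain rfl := hl.1 rfl
    have hB' := ea_of_el hp N.typ hB (fun h => absurd h.2 (by norm_num)) fun h => neF4_E7 h.1.symm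
    have hi : ∀ e ∈ B, e ≠ 1 → dd p e = 36 ∨ dd p e = 24 := fun e he h1 =>
      ((iso_F4 hB.prime (N.iso' hI hB' he h1)).resolve_right fun h => absurd h.1 (by norm_num)).2.imp_right And.left
    let K : Subgroup (YY chevF4 p) :=
      { carrier := {x | x ∈ B ∧ (x = 1 ∨ dd p x = 36)}
        one_mem' := ⟨one_mem _, Or.inl rfl⟩
        mul_mem' := by
          rintro x y ⟨hx, rfl | h1⟩ ⟨hy, h2⟩
          · rw [one_mul]
            exact ⟨hy, h2⟩
          rcases h2 with rfl | h2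
          · rw [mul_one]
            exact ⟨hx, Or.inr h1⟩
          by_cases h3 : x * y = 1
          · exact ⟨mul_mem hx hy, Or.inl h3⟩
          · exact ⟨mul_mem hx hy, Or.inr ((hi _ (mul_mem hx hy) h3).resolve_right
              (f4_mul hp hB.ne (hB'.tp x hx y hy) (hB.pow x hx) (hB.pow y hy) h1 h2))⟩
        inv_mem' := by
          rintro x ⟨hx, h1⟩
          rw [show x⁻¹ = x from (inv_eq_of_mul_eq_one_left (by rw [← pow_two, hB.pow x hx]) : _)]
          exact ⟨hx, h1⟩ }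
    have hK := N.noT K (P4.boxP4 p K (hB'.mono fun x hx => hx.1) fun e he h1 => he.2.resolve_left h1)
      fun φ hφ x hx => ⟨hI φ hφ x hx.1, hx.2.imp (fun h => by rw [h, map_one])
        fun h => by rw [dd_app (fun _ => hB.ne.symm) hB' φ hx.1, h]⟩
    have h2 := card_le_of_dvd hB (k := 3) (pure_dvd hp hB fun e he h1 => (hi e he h1).resolve_left fun h =>
      h1 (Subgroup.mem_bot.1 (hK.le ⟨he, Or.inr h⟩))) (by rw [nrF4]; decide)
    exact critB hC N.typ C F numB4 (three_le hB.ne) (hc.trans h2) (fun c _ y a1 a2 a3 => by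
      have h8 := le_bI hCI N.typ a1 a2 a3
      rwa [bI4, if_neg hB.ne.symm] at h8) fun e => absurd e neE6_F4
  · obtain rfl := hl.2.1 rfl
    have hB' := ea_of_el hp N.typ hB (fun h => absurd h.2 (by norm_num)) fun h => neE6_E7 h.1.symm
    have h2 := card_le_of_dvd hB (k := 4) (pure_dvd hp hB fun e he h1 =>
      ((iso_E6 hB.prime (N.iso' hI hB' he h1)).resolve_right fun h => absurd h.1 (by norm_num)).2.1)
      (by rw [nrE6]; decide)
    exact critB hC N.typ C F numB6 (three_le hB.ne) (hc.trans h2) (fun c _ y a1 a2 a3 => by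
      have h8 := le_bI hCI N.typ a1 a2 a3
      rwa [bI6] at h8) fun _ _ => ⟨le_rfl, by decide +kernel⟩
  · obtain rfl := hl.2.2.1 rfl
    have h2 := card_le_of_dvd hB (k := 11) (dvd_two hp hB {-7, 5, 25} fun e he h1 => by
      rw [nrE7]
      rcases e7_inv hp hB.ne (hB.pow e he) h1 with h | h | h <;> rw [h] <;> decide) (by rw [nrE7]; decide)
    exact critB hC N.typ C F numB72 (three_le hB.ne) (hc.trans h2) (fun c _ y a1 a2 a3 => by
      have h8 := le_bI hCI N.typ a1 a2 a3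
      rwa [bI7] at h8) fun e => absurd e neE6_E7
  · obtain rfl := hl.2.2.1 rfl
    have hB' := ea_of_el hp N.typ hB (fun h => neE6_E7 h.1) fun h => absurd h.2 (by norm_num)
    have h2 := card_le_of_dvd hB (k := 3) (pure_dvd hp hB fun e he h1 =>
      ((iso_E7 hB.prime (N.iso' hI hB' he h1)).resolve_left fun h => absurd h.1 (by norm_num)).2.1)
      (by rw [nrE7]; decide)
    exact critB hC N.typ C F numB73 h2p (hc.trans h2) (fun c _ y a1 a2 a3 => by
      have h8 := le_bI hCI N.typ a1 a2 a3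
      rwa [bI7] at h8) fun e => absurd e neE6_E7
  · obtain rfl := hl.2.2.2 rfl
    have hB' := ea_of_el hp N.typ hB (fun h => neE6_E8 h.1) fun h => neE7_E8 h.1
    have h2 := card_le_of_dvd hB (k := 13) (dvd_two hp hB {-8, 24} fun e he h1 => by
      rw [nrE8]
      rcases ((iso_E8 hB.prime (N.iso' hI hB' he h1)).resolve_right fun h =>
        h.elim (fun h => absurd h.1 (by norm_num)) fun h => absurd h.1 (by norm_num)).2 with h | ⟨h, -⟩ <;>
        rw [h] <;> decide) (by rw [nrE8]; decide)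
    exact critB hC N.typ C F numB82 (three_le hB.ne) (hc.trans h2) (fun c _ y a1 a2 a3 => by
      have h8 := le_bI hCI N.typ a1 a2 a3
      rwa [bI8] at h8) fun e => absurd e neE6_E8
  · obtain rfl := hl.2.2.2 rfl
    have hB' := ea_of_el hp N.typ hB (fun h => neE6_E8 h.1) fun h => neE7_E8 h.1
    have h2 := card_le_of_dvd hB (k := 7) (dvd_three hp hB {-4, 5} fun e he h1 => by
      rw [nrE8]
      rcases (((iso_E8 hB.prime (N.iso' hI hB' he h1)).resolve_left fun h => absurd h.1 (by norm_num)).resolve_right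
        fun h => absurd h.1 (by norm_num)).2 with h | ⟨h, -⟩
      · exact ⟨-4, by simp, by rw [h]; norm_num⟩
      · exact ⟨5, by simp, by rw [h]; norm_num⟩) (by rw [nrE8]; decide)
    exact critB hC N.typ C F numB83 h2p (hc.trans h2) (fun c _ y a1 a2 a3 => by
      have h8 := le_bI hCI N.typ a1 a2 a3
      rwa [bI8] at h8) fun e => absurd e neE6_E8

/-! ### trivial radicals -/

theorem exists_loc_of_ea {L : Lift hp p T} (N : DS.Nt.Ctx L S) {A : Subgroup (YY D p)} (hA : EA p r A)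
    (hI : L.Inv S A) (h0 : pb L A ≠ ⊥) : ∃ E, DS.Loc T S E r ∧ EA p r (im L E) := by
  obtain ⟨E, r', hEA, hL⟩ := DS.Gen.exists_loc N.setup (pb_le A) (norm_pb N.setup.normal hI) h0 fun x hx y hy => by
    obtain ⟨hx1, hx2⟩ := mem_pb.1 hx
    obtain ⟨hy1, hy2⟩ := mem_pb.1 hy
    have h3 := hA.comm _ hx2 _ hy2
    rw [← map_mul, ← map_mul] at h3
    exact congrArg Subtype.val (L.inj h3)
  have h1 : im L E ≤ A := by
    rintro _ ⟨x, hx, rfl⟩
    exact coe_mem_pb.1 (hEA hx)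
  obtain rfl : r = r' := by
    obtain ⟨e, he, he1⟩ := exists_ne_im L hL
    have := Fact.mk hA.prime
    have := Fact.mk hL.prime
    have h2 : e ^ r' = 1 := by
      obtain ⟨x, hx, rfl⟩ := he
      rw [← map_pow, show x ^ r' = 1 from Subtype.ext (hL.pow x hx), map_one]
    rw [← orderOf_eq_prime (hA.pow e (h1 he)) he1, orderOf_eq_prime h2 he1]
  exact ⟨E, hL, hA.mono h1⟩

theorem numC6 : Num 6 (3 ^ 4) (3 ^ 16) 0 3 24 6 2 (2 ^ 2) (3 ^ 21) (3 ^ 17) (3 ^ 21) := by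
  constructor <;> decide +kernel

theorem numC7 : Num 7 (dM 7 * 2 ^ 4) ((2 ^ 4) ^ 4) 0 2 72 7 3 (3 ^ 2) (2 ^ 23) (2 ^ 18) (2 ^ 23) := by
  constructor <;> decide +kernel

theorem caseC (hCI : BoxCI) (hC6 : BoxCI6) (hC : BoxCrit) (C : Ctx p T S) (N : DS.Nt.Ctx F.L S)
    (hno : ∀ (E : Subgroup G) (r : ℕ), DS.Loc T S E r → ¬ EA p r (im F.L E)) : FitReg T S := by
  have hR : ∀ r : ℕ, r.Prime → ∀ R : Subgroup G, R ≠ ⊥ → R ≤ T → Nm S R → IsPGroup r R → r ≠ p ∧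
      (D = chevE6 ∧ r = 3 ∧ Nat.card R ≤ 3 ^ 6 ∨ D = chevE7 ∧ r = 2 ∧ Nat.card R ≤ 2 ^ 4) := by
    intro r hr R h0 h1 h2 h3
    refine ⟨?_, ((rad_cases N hr h0 h1 (le_normalizer_of_conj h2) h3).resolve_left ?_).2.2.2⟩
    · rintro rfl
      exact h0 (N.noP R h1 h3 (le_normalizer_of_conj h2))
    · rintro ⟨E, -, h4, h5, -⟩
      exact hno E r h4 h5
  have hs : ∀ c ∈ fit S ⊓ T, (orderOf c).Prime → D = chevE6 ∧ orderOf c = 3 ∨ D = chevE7 ∧ orderOf c = 2 := by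
    intro c hc h1
    have hnil := fit_nilpotent S
    obtain ⟨Q, h2, h3, h4, h5⟩ := exists_core (N := fit S ⊓ T)
      (Group.nilpotent_of_mulEquiv (Subgroup.subgroupOfEquivOfLe (inf_le_left : fit S ⊓ T ≤ fit S))) _ h1
    refine (hR _ h1 Q (fun h6 => ?_) (h2.trans inf_le_right) (fun s hs => h5 s (nm_fit_inf C.as.normal s hs))
      h3).2.imp (fun h => ⟨h.1, h.2.1⟩) fun h => ⟨h.1, h.2.1⟩
    have h7 := (h4 c hc).1 ⟨1, by rw [pow_one, pow_orderOf_eq_one]⟩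
    rw [h6, Subgroup.mem_bot] at h7
    rw [h7, orderOf_one] at h1
    exact Nat.not_prime_one h1
  obtain ⟨X, a1, a2, a3, -, -, ⟨r, hr, a4⟩, -⟩ := C.max.exists_min C.as C.solv
  have hl := typ_l hp
  obtain ⟨hrp, ⟨rfl, rfl, -⟩ | ⟨rfl, rfl, -⟩⟩ := hR r hr X a2 (a1.trans inf_le_right) a3
    fun x => ⟨1, Subtype.ext (by rw [pow_one]; exact a4 x x.2)⟩
  · obtain rfl := hl.2.1 rfl
    have := finite_imD (F := F) C.as.normal (fit S)
    have hI : F.L.Inv S (imD F C.as.normal (fit S)) := inv_imD _ nm_fit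
    have h3 : ∀ c ∈ fit S, ∀ y, F.Ind y c → (orderOf y).Prime → orderOf y = 3 := by
      intro c hc y h1 h2
      by_contra h4
      have h5 : y ∈ F.L.ι.range := mem_of_pow_coprime (a := F.L.dd) (b := orderOf y) (F.L.pow_dd y (ind_fix h1))
        (by rw [pow_orderOf_eq_one]; exact one_mem _) (by
          rcases F.L.hdd with h | ⟨-, h⟩ | ⟨h, -⟩
          · rw [h]
            exact Nat.coprime_one_left _
          · rw [h]
            exact (Nat.coprime_primes Nat.prime_three h2).2 (Ne.symm h4)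
          · exact absurd h.symm neE6_E7)
      have h6 : orderOf c = orderOf y := by
        rw [← theta_eq C.as.normal h1, orderOf_injective _ ((by exact theta_inj C.as))]
        exact (Subgroup.orderOf_mk (H := F.ID C.as.normal) c ⟨y, h1⟩).symm
      rcases hs c ⟨hc, mem_T_of_ind C.as h1 h5⟩ (by rwa [h6]) with h | h
      · exact h4 (h6 ▸ h.2)
      · exact neE6_E7 h.1.symm
    have hP : IsPGroup 3 (imD F C.as.normal (fit S)) := isPGroup_of_prime fun x hx => by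
      obtain ⟨c, h1, h2⟩ := (mem_imD C.as.normal).1 x.2
      rw [← Subgroup.orderOf_coe] at hx ⊢
      exact h3 c h1 x h2 hx
    obtain ⟨A, hA⟩ := exists_rad hp N.typ hr hrp hP
    have hAP : A ≤ imD F C.as.normal (fit S) := fun x hx => ((hA x).1 hx).1.1
    have hA' : EA p 3 A := ⟨hr, hrp, Finite.of_injective _ (Subgroup.inclusion_injective hAP),
      fun x hx y hy => ((hA y).1 hy).1.2.2 x (hAP hx), fun x hx => ((hA x).1 hx).1.2.1,
      fun x hx y hy => ((hA y).1 hy).2 x ((hA x).1 hx).1⟩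
    have hAI : F.L.Inv S A := fun φ hφ a ha => by
      rw [hA] at ha ⊢
      refine ⟨inv_OZ hI φ hφ ha.1, fun z hz => ?_⟩
      have h1 := (ha.2 _ (inv_OZ hI φ⁻¹ (π_inv hφ) hz)).wfr (F.L.wfr φ φ.2)
      rwa [app_inv] at h1
    have hA0 : A = ⊥ := by
      refine N.noT A (hA'.toral_of_card ?_) hAI
      have h1 : pb F.L A = ⊥ := by
        by_contra h2
        obtain ⟨E, h4, h5⟩ := exists_loc_of_ea N hA' hAI h2
        exact hno E 3 h4 h5
      have h2 : A ⊓ F.L.ι.range = ⊥ := eq_bot_iff.2 (by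
        rintro _ ⟨h4, x, rfl⟩
        have h5 := coe_mem_pb.2 h4
        rw [h1, Subgroup.mem_bot] at h5
        rw [show x = 1 from Subtype.ext h5, map_one]
        exact one_mem _)
      have h4 := card_le_dM (hAP.trans (imD_le_fix C.as.normal _))
      rw [h2, Subgroup.card_bot] at h4
      exact h4.trans (by decide)
    have hrad : ∀ x, OZ 3 (imD F C.as.normal (fit S)) x → (∀ z, OZ 3 (imD F C.as.normal (fit S)) z → Tp p z x) →
        x = 1 := fun x h1 h2 => Subgroup.mem_bot.1 (hA0.le ((hA x).2 ⟨h1, h2⟩))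
    have hEL : EL p 3 (imD F C.as.normal (fit S)) := by
      by_cases h0 : imD F C.as.normal (fit S) = ⊥
      · refine ⟨hr, hrp, inferInstance, fun x hx y _ => ?_, fun x hx => ?_⟩
        · rw [Subgroup.mem_bot.1 (h0.le hx), one_mul, mul_one]
        · rw [Subgroup.mem_bot.1 (h0.le hx), one_pow]
      · exact (rad_bot hp N.typ hr hrp hP h0 hrad).1
    have hpart : ∀ y ∈ imD F C.as.normal (fit S), y ≠ 1 → ∃ x : YY chevE6 p, x ^ 3 = 1 ∧ x * y = y * x ∧ ¬ Tp p y x := by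
      intro y hy h1
      by_contra h2
      push Not at h2
      exact h1 (hrad y ⟨hy, hEL.pow y hy, fun z hz => hEL.comm z hz y hy⟩ fun z hz =>
        (h2 z hz.2.1 (hEL.comm z hz.1 y hy)).symm)
    have hf : Nat.card ↥(fit S ⊓ F.ID C.as.normal) ≤ 3 ^ 4 := by
      rw [← card_imD C.as]
      refine card_le_81 hp hEL fun e he h1 => ?_
      obtain ⟨x, b1, b2, b3⟩ := hpart e he h1
      obtain ⟨K, b4, -, b5 | b5 | b5⟩ := exists_DD hp N.typ hr hrp (hEL.pow e he)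
      · exact absurd ((b4 x b2 ⟨1, by rw [pow_one]; exact b1⟩).2 (b5 x b2)) b3
      · exact b5.2.2
      · exact absurd b5.2.1 (by norm_num)
    refine crit' hC N.typ C F numC6 (Fact.out : p.Prime).two_le hf ((card_inf_le C).trans ?_)
      (fun c b0 y b1 b2 b3 => le_b6 hC6 b1 (h3 c b0 y b1 b2) b3 (Or.inr (hpart y ((mem_imD C.as.normal).2 ⟨c, b0, b1⟩)
        fun b4 => ?_))) fun _ _ => ⟨fun X b1 b2 b3 => ?_, by decide +kernel⟩
    · exact (Nat.pow_le_pow_left ((Subgroup.card_le_of_le (inf_le_inf_left _ (le_ID C.as.normal))).trans hf) 4).trans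
        (by norm_num)
    · rw [b4, orderOf_one] at b2
      exact Nat.not_prime_one b2
    · refine (Subgroup.card_le_one_iff_eq_bot X).2 ?_
      by_contra b4
      rcases (hR 2 Nat.prime_two X b4 (b1.trans inf_le_right) b3 b2).2 with h | h
      · exact absurd h.2.1 (by norm_num)
      · exact neE6_E7 h.1.symm
  · obtain rfl := hl.2.2.1 rfl
    have h1 : Nat.card ↥(fit S ⊓ T) ≤ 2 ^ 4 := by
      by_cases h0 : fit S ⊓ T = ⊥
      · rw [h0, Subgroup.card_bot]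
        norm_num
      · refine ((hR 2 Nat.prime_two _ h0 inf_le_right (nm_fit_inf C.as.normal) (isPGroup_of_prime fun x hx => ?_)).2.resolve_left
          fun h => neE6_E7 h.1).2.2
        rw [← Subgroup.orderOf_coe] at hx ⊢
        exact ((hs x x.2 hx).resolve_left fun h => neE6_E7 h.1).2
    exact critB hC N.typ C F numC7 (three_le hrp) h1 (fun c _ y a1 a2 a3 => by
      have h8 := le_bI hCI N.typ a1 a2 a3
      rwa [bI7] at h8) fun e => absurd e neE6_E7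

/-- **No invariant toral subgroup.** -/
theorem boxNT_of (hCI : BoxCI) (hC6 : BoxCI6) (hC : BoxCrit) : BoxNT := by
  intro D l M hp hD p _ G _ _ T S C q F hA
  have N := ntCtx hD C F hA
  by_cases h : ∀ (E : Subgroup G) (r : ℕ), DS.Loc T S E r → ¬ EA p r (im F.L E)
  · exact caseC hCI hC6 hC C N h
  · push Not at h
    obtain ⟨E, r, hL, hE⟩ := h
    exact (loc_struct N hL hE).elim (caseA hCI hC6 hC C N hL hE) (caseB hCI hC C N hL hE)

end Cfsg.Agent.SB.Exc.NT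
end

private theorem dce_c07c595619ad : _root_.True := by
  try have : _root_.True := by simp only [_root_.Cfsg.Agent.SB.Exc.bI.eq_1]
  try have : _root_.True := by simp only [_root_.Cfsg.Agent.SB.Exc.XF.ID.congr_simp]
  exact _root_.True.intro
end
end
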